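import Mathlib

/-!
# The arithmetic of the column relations for Suzuki groups
-/

set_option autoImplicit false

namespace Cfsg.Agent.SzChar

theorem sq_le_one {x : ℤ} (h : x ^ 2 ≤ 1) : x = -1 ∨ x = 0 ∨ x = 1 := by
  have h1 : -2 < x := by nlinarith
  have h2 : x < 2 := by nlinarith
  omega

theorem sq_eq_one' {x : ℤ} (h : x ^ 2 = 1) : x = -1 ∨ x = 1 := by
  rcases sq_le_one h.le with e | e | e
  · exact Or.inl e
  · rw [e] at h; norm_num at h
  · exact Or.inr e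

/-- The second root of the quadratic in the degree shift is not an integer. -/
theorem no_second_root {t u : ℤ} (ht : 1 ≤ t)
    (e : (16 * t ^ 3 + 8 * t ^ 2 + 2 * t - 1) * u = -(8 * t * (2 * t - 1) * (8 * t ^ 2 + 4 * t + 1))) :
    False := by
  set M := 16 * t ^ 3 + 8 * t ^ 2 + 2 * t - 1 with hM
  have h2 : IsCoprime M (2 * t) := ⟨-1, 8 * t ^ 2 + 4 * t + 1, by rw [hM]; ring⟩
  have h8 : IsCoprime M (8 * t) :=
    (h2.pow_right (n := 3)).of_isCoprime_of_dvd_right ⟨t ^ 2, by ring⟩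
  have h4 : IsCoprime M (4 * t) := h8.of_isCoprime_of_dvd_right ⟨2, by ring⟩
  have d1 : M ∣ (2 * t - 1) * (8 * t ^ 2 + 4 * t + 1) := by
    refine h8.dvd_of_dvd_mul_left ⟨-u, ?_⟩
    rw [mul_neg, e]
    ring
  have d2 : M ∣ 2 * t + 1 := by
    refine h4.dvd_of_dvd_mul_left ?_
    have := Int.dvd_sub (dvd_refl M) d1
    rwa [show M - (2 * t - 1) * (8 * t ^ 2 + 4 * t + 1) = 4 * t * (2 * t + 1) by rw [hM]; ring] at this
  have h3 := Int.le_of_dvd (by omega) d2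
  have ht2 : 1 ≤ t ^ 2 := by nlinarith
  have ht3 : t ^ 2 ≤ t ^ 3 := by nlinarith
  omega

theorem c_cases {t ε c X : ℤ} (ht : 1 ≤ t) (hε : ε = 1 ∨ ε = -1) (hX : 0 ≤ X)
    (hN : X = 2 + 2 * ε * c - t * (2 * t + 1) * c ^ 2) : c = 0 ∨ (t = 1 ∧ c = ε) := by
  have hn : 3 ≤ t * (2 * t + 1) := by nlinarith
  have h3 : 3 * c ^ 2 ≤ 2 + 2 * ε * c := by
    have := mul_le_mul_of_nonneg_right hn (sq_nonneg c)
    linarith
  have hb : -2 < c ∧ c < 2 := by
    rcases hε with rfl | rfl <;> constructor <;> nlinarith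
  rcases (show c = -1 ∨ c = 0 ∨ c = 1 by omega) with h | h | h
  swap
  · exact Or.inl h
  all_goals
    right
    subst h
    rcases hε with rfl | rfl
    all_goals
      refine ⟨?_, ?_⟩
      · by_contra hne
        nlinarith [show 2 ≤ t by omega]
      · nlinarith

/-- The case of a nonzero constant does not occur. -/
theorem exceptional {ε w R aA yA aW yW aB yB cB : ℤ} (hε : ε = 1 ∨ ε = -1) (hR0 : 0 ≤ R) (hR : R ≤ 1)
    (haA : 0 ≤ aA) (haW : 0 ≤ aW) (haB : 0 ≤ aB)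
    (hN : 2 * w ^ 2 + R * cB ^ 2 = 1) (hY : 2 * ε * yA + 2 * w * yW + R * (cB * yB) = 9)
    (hA : 2 * ε * aA + 2 * w * aW + R * (cB * aB) = 1)
    (hSa : 3 * aA ^ 2 + 2 * aW ^ 2 + R * aB ^ 2 = 4)
    (hSay : 3 * (aA * yA) + 2 * (aW * yW) + R * (aB * yB) = 28) : False := by
  rcases (show R = 0 ∨ R = 1 by omega) with h | h <;> subst h
  · simp only [zero_mul, add_zero] at hN; omega
  simp only [one_mul] at hN hY hA hSa hSay
  have hw : w = 0 := by
    have : w ^ 2 ≤ 0 := by nlinarith [sq_nonneg cB]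
    exact pow_eq_zero_iff two_ne_zero |>.mp (le_antisymm this (sq_nonneg w))
  subst hw
  have hcB := sq_eq_one' (show cB ^ 2 = 1 by linarith)
  have haA1 : aA ≤ 1 := by nlinarith [sq_nonneg aW, sq_nonneg aB]
  have haW1 : aW ≤ 1 := by nlinarith [sq_nonneg aA, sq_nonneg aB]
  have haB2 : aB ≤ 2 := by nlinarith [sq_nonneg aA, sq_nonneg aW]
  rcases (show aA = 0 ∨ aA = 1 by omega) with rfl | rfl <;>
    rcases (show aW = 0 ∨ aW = 1 by omega) with rfl | rfl <;>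
    rcases (show aB = 0 ∨ aB = 1 ∨ aB = 2 by omega) with rfl | rfl | rfl <;>
    rcases hε with rfl | rfl <;> rcases hcB with rfl | rfl <;> first | omega | linarith

theorem w_sq {t w R cB : ℤ} (ht : 1 ≤ t) (hR0 : 0 ≤ R) (hR : R ≤ t * (2 * t - 1))
    (hR2 : 2 ≤ t → R = t * (2 * t - 1)) (hN : 2 * w ^ 2 + R * cB ^ 2 = 2) :
    w ^ 2 = 1 ∧ R * cB = 0 := by
  rcases (show t = 1 ∨ 2 ≤ t by omega) with ht1 | ht2
  · subst ht1
    rcases (show R = 0 ∨ R = 1 by omega) with h | h <;> subst h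
    · exact ⟨by linarith, zero_mul _⟩
    · have h1 : w ^ 2 ≤ 1 := by nlinarith [sq_nonneg cB]
      rcases sq_le_one h1 with h' | h' | h' <;> subst h' <;> norm_num at hN ⊢
      · exact hN
      · have h3 : -2 < cB := by nlinarith
        have h4 : cB < 2 := by nlinarith
        rcases (show cB = -1 ∨ cB = 0 ∨ cB = 1 by omega) with r | r | r <;> subst r <;> norm_num at hN
      · exact hN
  · have h6 : 6 ≤ R := by rw [hR2 ht2]; nlinarith
    have : cB ^ 2 = 0 := by nlinarith [mul_le_mul_of_nonneg_right h6 (sq_nonneg cB), sq_nonneg w]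
    have hcB : cB = 0 := pow_eq_zero_iff two_ne_zero |>.mp this
    subst hcB
    exact ⟨by linarith, mul_zero _⟩

theorem a_values {t ε w R aA yA aW yW aB : ℤ} (ht : 1 ≤ t) (hε : ε = 1 ∨ ε = -1) (hw : w = -1 ∨ w = 1)
    (hR0 : 0 ≤ R) (hR : R ≤ t * (2 * t - 1)) (hR2 : 2 ≤ t → R = t * (2 * t - 1))
    (haA : 0 ≤ aA) (haW : 0 ≤ aW) (haB : 0 ≤ aB) (hpar : Odd yA → Odd aA)
    (hY : -ε * yA + 2 * w * yW = 8 * t ^ 2 + 1) (hA : -ε * aA + 2 * w * aW = 1)
    (hSa : t * (2 * t + 1) * aA ^ 2 + 2 * aW ^ 2 + R * aB ^ 2 = 4 * t ^ 2) :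
    aA = 1 ∧ aW = 0 ∧ ε = -1 ∧ R = t * (2 * t - 1) ∧ aB = 1 := by
  have hodd : Odd yA := by
    rw [Int.odd_iff]
    rcases hε with rfl | rfl <;> rcases hw with rfl | rfl <;> omega
  obtain ⟨k, hk⟩ := hpar hodd
  have hRb := mul_nonneg hR0 (sq_nonneg aB)
  have haA1 : aA = 1 := by
    by_contra hne
    have h9 : 9 ≤ aA ^ 2 := by nlinarith [show 3 ≤ aA by omega]
    have := mul_le_mul_of_nonneg_left h9 (show 0 ≤ t * (2 * t + 1) by nlinarith)
    nlinarith [sq_nonneg aW]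
  subst haA1
  have hε1 : ε = -1 := by
    rcases hε with rfl | rfl
    swap
    · rfl
    exfalso
    have haW1 : aW = 1 := by rcases hw with rfl | rfl <;> omega
    subst haW1
    have e : R * aB ^ 2 = t * (2 * t - 1) - 2 := by linarith
    rcases (show t = 1 ∨ 2 ≤ t by omega) with ht1 | ht2
    · subst ht1; norm_num at e; omega
    · rw [hR2 ht2] at e
      have h6 : 6 ≤ t * (2 * t - 1) := by nlinarith
      rcases le_or_gt aB 0 with h0 | h0
      · rw [show aB = 0 by omega] at e; norm_num at e; omega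
      · have : 1 ≤ aB ^ 2 := by nlinarith
        nlinarith [mul_le_mul_of_nonneg_left this (show 0 ≤ t * (2 * t - 1) by omega)]
  subst hε1
  have haW0 : aW = 0 := by rcases hw with rfl | rfl <;> omega
  subst haW0
  have e : R * aB ^ 2 = t * (2 * t - 1) := by linarith
  have hRn : R = t * (2 * t - 1) := by
    rcases (show t = 1 ∨ 2 ≤ t by omega) with ht1 | ht2
    · subst ht1
      rcases (show R = 0 ∨ R = 1 by omega) with h | h
      · subst h; norm_num at e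
      · rw [h]; norm_num
    · exact hR2 ht2
  refine ⟨rfl, rfl, rfl, hRn, ?_⟩
  have h1 : aB ^ 2 = 1 := by
    refine mul_left_cancel₀ (show t * (2 * t - 1) ≠ 0 by nlinarith) ?_
    rw [← hRn, mul_one]
    linarith
  rcases sq_eq_one' h1 with h' | h'
  · omega
  · exact h'

theorem y_values {t w yA yW yB : ℤ} (ht : 1 ≤ t) (hw : w = -1 ∨ w = 1) (hyW : 0 < yW)
    (hY : yA + 2 * w * yW = 8 * t ^ 2 + 1)
    (hSay : t * (2 * t + 1) * yA + t * (2 * t - 1) * yB = 4 * t ^ 2 * (8 * t ^ 2 - 1))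
    (hSy : t * (2 * t + 1) * yA ^ 2 + 2 * yW ^ 2 + t * (2 * t - 1) * yB ^ 2 =
      4 * t ^ 2 * (64 * t ^ 4 - 1)) :
    yA = 8 * t ^ 2 - 4 * t + 1 ∧ yW = 2 * t ∧ yB = 8 * t ^ 2 + 4 * t + 1 := by
  obtain ⟨u, rfl⟩ : ∃ u, yA = 8 * t ^ 2 - 4 * t + 1 - u := ⟨8 * t ^ 2 - 4 * t + 1 - yA, by ring⟩
  obtain ⟨δ, rfl⟩ : ∃ δ, yB = 8 * t ^ 2 + 4 * t + 1 + δ := ⟨yB - (8 * t ^ 2 + 4 * t + 1), by ring⟩
  have hv : 2 * (w * yW) = 4 * t + u := by linarith
  have hw2 : w ^ 2 = 1 := by rcases hw with rfl | rfl <;> norm_num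
  have h2yW : 4 * yW ^ 2 = (4 * t + u) ^ 2 := by rw [← hv]; linear_combination -4 * yW ^ 2 * hw2
  have hδ : t * (2 * t - 1) * δ = t * (2 * t + 1) * u := by linear_combination hSay
  have key : u * ((16 * t ^ 3 + 8 * t ^ 2 + 2 * t - 1) * u +
      8 * t * (2 * t - 1) * (8 * t ^ 2 + 4 * t + 1)) = 0 := by
    refine mul_left_cancel₀ (show t ≠ 0 by omega) ?_
    rw [mul_zero]
    linear_combination (2 * (t * (2 * t - 1))) * hSy -
      2 * (t * (2 * t - 1) * (2 * (8 * t ^ 2 + 4 * t + 1) + δ) + t * (2 * t + 1) * u) * hδ -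
      (t * (2 * t - 1)) * h2yW
  have hu0 : u = 0 := by
    rcases mul_eq_zero.mp key with h | h
    · exact h
    · exact (no_second_root (u := u) ht (by linarith)).elim
  subst hu0
  refine ⟨by ring, ?_, ?_⟩
  · rcases hw with rfl | rfl <;> linarith
  · rw [mul_zero] at hδ
    rcases mul_eq_zero.mp hδ with h | h
    · nlinarith
    · rw [h]; ring

/-- The column relations determine the degrees. -/
theorem degrees_arith {t ε c w R aA yA aW yW aB yB cB : ℤ} (ht : 1 ≤ t)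
    (hε : ε = 1 ∨ ε = -1) (hR0 : 0 ≤ R) (hR : R ≤ t * (2 * t - 1))
    (hR2 : 2 ≤ t → R = t * (2 * t - 1))
    (haA : 0 ≤ aA) (haW : 0 ≤ aW) (haB : 0 ≤ aB) (hyW : 0 < yW) (hpar : Odd yA → Odd aA)
    (hN : 2 * w ^ 2 + R * cB ^ 2 = 2 + 2 * ε * c - t * (2 * t + 1) * c ^ 2)
    (hY : yA * (-ε + t * (2 * t + 1) * c) + 2 * w * yW + R * (cB * yB) = 8 * t ^ 2 + 1)
    (hA : aA * (-ε + t * (2 * t + 1) * c) + 2 * w * aW + R * (cB * aB) = 1)
    (hSa : t * (2 * t + 1) * aA ^ 2 + 2 * aW ^ 2 + R * aB ^ 2 = 4 * t ^ 2)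
    (hSay : t * (2 * t + 1) * (aA * yA) + 2 * (aW * yW) + R * (aB * yB) = 4 * t ^ 2 * (8 * t ^ 2 - 1))
    (hSy : t * (2 * t + 1) * yA ^ 2 + 2 * yW ^ 2 + R * yB ^ 2 = 4 * t ^ 2 * (64 * t ^ 4 - 1)) :
    yA = 8 * t ^ 2 - 4 * t + 1 ∧ yW = 2 * t ∧ yB = 8 * t ^ 2 + 4 * t + 1 ∧ R = t * (2 * t - 1) := by
  rcases c_cases ht hε (add_nonneg (mul_nonneg zero_le_two (sq_nonneg w)) (mul_nonneg hR0 (sq_nonneg cB))) hN with rfl | ⟨rfl, rfl⟩
  · simp only [mul_zero, add_zero, zero_pow two_ne_zero, sub_zero] at hN hY hA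
    obtain ⟨hw, hRc⟩ := w_sq (w := w) (cB := cB) ht hR0 hR hR2 hN
    rw [← mul_assoc R cB, hRc, zero_mul, add_zero] at hY hA
    have hw' := sq_eq_one' hw
    obtain ⟨rfl, rfl, rfl, rfl, rfl⟩ := a_values (yA := yA) (yW := yW) ht hε hw' hR0 hR hR2 haA haW haB hpar
      (by linarith) (by linarith) hSa
    obtain ⟨e1, e2, e3⟩ := y_values (yA := yA) (yB := yB) ht hw' hyW (by linarith) (by linarith) hSy
    exact ⟨e1, e2, e3, rfl⟩
  · exfalso
    have hee : c * c = 1 := by rcases hε with rfl | rfl <;> norm_num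
    norm_num at hR hN hY hA hSa hSay
    exact exceptional (w := w) (cB := cB) (R := R) (yW := yW) (yB := yB) (yA := yA) hε hR0 hR haA haW haB
      (by linear_combination hN - hee) (by linear_combination hY) (by linear_combination hA) hSa hSay

end Cfsg.Agent.SzChar
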