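import Cfsg.Agent.Lib.Char.TIFrobenius
import Cfsg.Agent.Lib.Char.Integral
import Cfsg.Agent.Lib.Suzuki.TI
import Cfsg.Agent.S0170

/-!
# The exceptional characters of a self-centralizing torus with normalizer quotient of order four
-/

set_option autoImplicit false
set_option linter.unusedSectionVars false
set_option linter.style.haveILetI false

namespace Cfsg.Agent.SzChar

open Cfsg Cfsg.Agent.Char
open scoped ComplexConjugate Classical

universe u

variable {G : Type u} [Group G] [Fintype G]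

/-- A constant value on the non-identity elements of a subgroup is rational. -/
theorem exists_int_of_const (C : Subgroup G) {f : G → ℂ} {c : ℂ} {k : ℤ} (hf : IsIntegral ℤ c)
    (hC : ∀ x ∈ C, x ≠ 1 → f x = c) (hC1 : 1 < Nat.card C)
    (hs : ∑ x : C, f x - f 1 = (k : ℂ)) : ∃ n : ℤ, c = (n : ℂ) := by
  rw [← Finset.add_sum_erase _ _ (Finset.mem_univ (1 : C)), OneMemClass.coe_one,
    Finset.sum_congr rfl (fun (x : C) hx => hC (x : G) x.2
      (fun e => Finset.ne_of_mem_erase hx (Subtype.ext e))),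
    Finset.sum_const, Finset.card_erase_of_mem (Finset.mem_univ _), Finset.card_univ,
    ← Nat.card_eq_fintype_card, nsmul_eq_mul, add_sub_cancel_left] at hs
  have hk : ((Nat.card C - 1 : ℕ) : ℚ) ≠ 0 := Nat.cast_ne_zero.mpr (by omega)
  have hc : c = (((k : ℚ) / ((Nat.card C - 1 : ℕ) : ℚ) : ℚ) : ℂ) := by
    push_cast
    rw [eq_div_iff (by exact_mod_cast hk), ← hs]
    ring
  obtain ⟨n, hn⟩ := exists_int_of_isIntegral (hc ▸ hf)
  exact ⟨n, by rw [hc, hn]; push_cast; rfl⟩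

/-- What is used about a family of exceptional characters. -/
structure Fam (C : Subgroup G) (n : ℕ) (X : Finset (IrrCharacter G)) (ε c : ℤ) : Prop where
  card : X.card = n
  sign : ε = 1 ∨ ε = -1
  agree : ∀ χ ∈ X, ∀ ψ ∈ X, ∀ g : G, (∀ x ∈ C, x ≠ 1 → ¬ IsConj g x) →
    (χ : G → ℂ) g = (ψ : G → ℂ) g
  other : ∀ χ ∉ X, ∃ c' : ℤ, ∀ x ∈ C, x ≠ 1 → (χ : G → ℂ) x = (c' : ℂ)
  nonconst : ∀ χ ∈ X, ∀ c' : ℂ, ¬ ∀ x ∈ C, x ≠ 1 → (χ : G → ℂ) x = c'
  col_sum : ∀ x ∈ C, x ≠ 1 → ∑ χ ∈ X, (χ : G → ℂ) x = -(ε : ℂ) + (n : ℂ) * (c : ℂ)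
  col_norm : ∀ x ∈ C, x ≠ 1 → ∑ χ ∈ X, (χ : G → ℂ) x * conj ((χ : G → ℂ) x) =
    (Nat.card C : ℂ) - 4 - 2 * (ε : ℂ) * (c : ℂ) + (n : ℂ) * (c : ℂ) ^ 2

theorem exists_fam (C : Subgroup G) (hti : ∀ x ∈ C, x ≠ 1 → Subgroup.centralizer ({x} : Set G) = C)
    (hcomm : ∀ a ∈ C, ∀ b ∈ C, a * b = b * a) {n : ℕ} (hn : 2 ≤ n) (hC : Nat.card C = 4 * n + 1)
    (hN : Nat.card (Subgroup.normalizer (C : Set G)) = 4 * Nat.card C) :
    ∃ X ε c, Fam C n X ε c := by
  set N := Subgroup.normalizer (C : Set G) with hNdef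
  haveI : Fintype N := Fintype.ofFinite N
  set K := C.subgroupOf N with hK
  haveI : K.Normal := TIK.subgroupOf_normalizer_normal C
  have hC' : ∀ x ∈ C, x ≠ 1 → Subgroup.centralizer ({x} : Set G) ≤ C := fun x hx hx1 => (hti x hx hx1).le
  have hF := TIK.frob hC'
  have hTI : ∀ g : G, g ∉ N → ∀ s ∈ C, g * s * g⁻¹ ∈ C → s = 1 := fun g hg s hs hgs => by
    by_contra hs1
    exact hg (Suzuki.TI.mem_normalizer_of_conj hti hs hs1 hgs)
  have hKC : Nat.card K = Nat.card C :=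
    Nat.card_congr (Subgroup.subgroupOfEquivOfLe Subgroup.le_normalizer).toEquiv
  have hidx : K.index = 4 := by
    have h := Subgroup.card_mul_index K
    rw [hKC, hN, mul_comm 4] at h
    exact Nat.eq_of_mul_eq_mul_left Nat.card_pos h
  have hab : ∀ a ∈ K, ∀ b ∈ K, a * b = b * a := fun a ha b hb =>
    Subtype.ext (hcomm _ (Subgroup.mem_subgroupOf.mp ha) _ (Subgroup.mem_subgroupOf.mp hb))
  have hdeg : ∀ ξ : IrrCharacter N, Frob.Rel K (ξ : N → ℂ) → (ξ : N → ℂ) 1 = 4 := fun ξ hξ => by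
    rw [Frob.degree_eq_of_comm hF hab ξ.2 hξ, hidx]; norm_num
  set rs : Finset (IrrCharacter N) := Finset.univ.filter fun ξ => Frob.Rel K (ξ : N → ℂ) with hrs
  have hmem : ∀ ξ, ξ ∈ rs ↔ Frob.Rel K (ξ : N → ℂ) := fun ξ => by simp [hrs]
  have hrscard : rs.card = n := by
    have h := Frob.sum_rel_sq (K := K)
    rw [← hrs, Finset.sum_congr rfl (fun ξ hξ => by rw [hdeg ξ ((hmem ξ).mp hξ)]), Finset.sum_const,
      nsmul_eq_mul, hidx, hKC, hC] at h
    push_cast at h
    have h' : (rs.card : ℂ) = (n : ℂ) := by linear_combination h / 16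
    exact_mod_cast h'
  let e := rs.equivFinOfCardEq hrscard
  let φ : Fin n → (N → ℂ) := fun i => ((e.symm i).1 : N → ℂ)
  have hφ : ∀ i, Frob.Rel K (φ i) := fun i => (hmem _).mp (e.symm i).2
  have hφirr : ∀ i, Cfsg.IsIrrCharacter N (φ i) := fun i => (e.symm i).1.2
  have hφinj : Function.Injective φ := fun i j hij =>
    e.symm.injective (Subtype.ext (Subtype.ext hij))
  have hφsurj : ∀ ξ : IrrCharacter N, Frob.Rel K (ξ : N → ℂ) → ∃ i, φ i = (ξ : N → ℂ) := fun ξ hξ =>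
    ⟨e ⟨ξ, (hmem ξ).mpr hξ⟩, by simp [φ]⟩
  have hφ1 : ∀ i, φ i 1 = 4 := fun i => hdeg _ (hφ i)
  have hvan : ∀ i, ∀ x : N, (x : G) ∉ C → φ i x = 0 := fun i x hx =>
    Frob.vanish hF (hφirr i) (hφ i) fun h => hx (Subgroup.mem_subgroupOf.mp h)
  obtain ⟨ε', hε', θ, hθirr, hθinj, hθdiff⟩ := Cfsg.Agent.S0170.result (C : Set G)
    Subgroup.le_normalizer hTI n hn φ hφirr hφinj hvan (fun i j => by rw [hφ1, hφ1])
  obtain ⟨ε, hε, rfl⟩ : ∃ ε : ℤ, (ε = 1 ∨ ε = -1) ∧ (ε : ℂ) = ε' := by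
    rcases hε' with rfl | rfl
    · exact ⟨1, Or.inl rfl, by simp⟩
    · exact ⟨-1, Or.inr rfl, by simp⟩
  have hεε : (ε : ℂ) * ε = 1 := by rcases hε with rfl | rfl <;> norm_num
  have hD : ∀ i j, ∀ g, Cfsg.indFun N (φ i - φ j) g = (ε : ℂ) * (θ i g - θ j g) := fun i j g => by
    rw [indFun_sub, hθdiff i j]; simp
  have hclsN : ∀ i j, Cfsg.IsClassFunction N (φ i - φ j) := fun i j =>
    Char.IsClassFunction.sub (IsCharacter.isClassFunction (IsIrrCharacter.isCharacter (hφirr i)))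
      (IsCharacter.isClassFunction (IsIrrCharacter.isCharacter (hφirr j)))
  have hon : ∀ i j, ∀ x : N, Cfsg.indFun N (φ i - φ j) x = φ i x - φ j x := fun i j x =>
    TIK.indFun_restrict hTI hC' (hclsN i j) (fun y hy => by simp [hvan _ y hy]) (by simp [hφ1]) x
  have hagree : ∀ i j, ∀ g : G, (∀ x ∈ C, x ≠ 1 → ¬ IsConj g x) → θ i g = θ j g := by
    intro i j g hg
    have h0 : Cfsg.indFun N (φ i - φ j) g = 0 := by
      rw [indFun_apply, Finset.sum_eq_zero fun y _ => ?_, mul_zero]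
      by_cases hy : y⁻¹ * g * y ∈ N
      · rw [extendByZero_mem _ _ hy]
        by_cases hyC : y⁻¹ * g * y ∈ C
        · by_cases hy1 : y⁻¹ * g * y = 1
          · rw [show (⟨_, hy⟩ : N) = 1 from Subtype.ext hy1]; simp [hφ1]
          · exact absurd (isConj_iff.mpr ⟨y⁻¹, by simp⟩) (hg _ hyC hy1)
        · simp [hvan _ ⟨_, hy⟩ hyC]
      · exact extendByZero_not_mem _ _ hy
    rw [hD] at h0
    rcases mul_eq_zero.mp h0 with h | h
    · rw [h, zero_mul] at hεε; exact absurd hεε zero_ne_one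
    · exact sub_eq_zero.mp h
  let X : Finset (IrrCharacter G) := Finset.univ.image fun i => ⟨θ i, hθirr i⟩
  have hXmem : ∀ χ, χ ∈ X → ∃ i, (χ : G → ℂ) = θ i := fun χ hχ => by
    obtain ⟨i, -, rfl⟩ := Finset.mem_image.mp hχ
    exact ⟨i, rfl⟩
  -- a class function of `N` with equal coefficients is constant on `C`
  have hconst : ∀ f : N → ℂ, Cfsg.IsClassFunction N f →
      (∀ i j, Cfsg.classInner f (φ i) = Cfsg.classInner f (φ j)) →
      ∃ c : ℂ, ∀ x : N, (x : G) ∈ C → x ≠ 1 → f x = c := by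
    intro f hf hsame
    let i₀ : Fin n := ⟨0, by omega⟩
    refine ⟨_, fun x hx hx1 => Frob.eval_of_proportional hF hf (c := Cfsg.classInner f (φ i₀) / 4)
      (fun ξ hξ => ?_) (Subgroup.mem_subgroupOf.mpr hx) hx1⟩
    obtain ⟨i, hi⟩ := hφsurj ξ hξ
    rw [← hi, hsame i i₀, hφ1]
    ring
  have hres : ∀ χ : IrrCharacter G, ∀ i j,
      Cfsg.classInner (fun x : N => (χ : G → ℂ) x) (φ i) - Cfsg.classInner (fun x : N => (χ : G → ℂ) x) (φ j) =
        (ε : ℂ) * (Cfsg.classInner (χ : G → ℂ) (θ i) - Cfsg.classInner (χ : G → ℂ) (θ j)) := by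
    intro χ i j
    rw [← classInner_sub_right, ← classInner_indFun_right N (φ i - φ j)
      (IsCharacter.isClassFunction (IsIrrCharacter.isCharacter χ.2)), indFun_sub, hθdiff i j,
      classInner_smul_right, classInner_sub_right, map_intCast]
  have hrescls : ∀ χ : IrrCharacter G, Cfsg.IsClassFunction N (fun x : N => (χ : G → ℂ) x) := fun χ =>
    IsCharacter.isClassFunction (IsCharacter.restrict (IsIrrCharacter.isCharacter χ.2) N)
  obtain ⟨x₀, hx₀, hx₀1⟩ : ∃ x ∈ C, x ≠ 1 := by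
    have : C ≠ ⊥ := fun h => by rw [h, Subgroup.card_bot] at hC; omega
    exact (Subgroup.bot_or_exists_ne_one C).resolve_left this
  have hsumC : ∀ i, ∑ x : C, φ i ⟨x, Subgroup.le_normalizer x.2⟩ = 0 := by
    intro i
    rw [← Frob.sum_K_eq_zero hF (hφirr i) (hφ i)]
    rw [← Finset.sum_subset (Finset.subset_univ (Finset.univ.filter fun y : N => (y : G) ∈ C))
      (fun y _ hy => hvan i y fun h => hy (Finset.mem_filter.mpr ⟨Finset.mem_univ _, h⟩))]
    refine Finset.sum_bij (fun (x : C) _ => (⟨x, Subgroup.le_normalizer x.2⟩ : N))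
      (fun x _ => Finset.mem_filter.mpr ⟨Finset.mem_univ _, x.2⟩)
      (fun a _ b _ h => Subtype.ext (congrArg (fun y : N => (y : G)) h))
      (fun y hy => ⟨⟨(y : G), (Finset.mem_filter.mp hy).2⟩, Finset.mem_univ _, rfl⟩) fun _ _ => rfl
  have hnat : ∀ χ : IrrCharacter G, ∃ k : ℤ, ∑ x : C, (χ : G → ℂ) x - (χ : G → ℂ) 1 = (k : ℂ) := by
    intro χ
    obtain ⟨M, hM⟩ := IsCharacter.exists_classInner_nat
      (IsCharacter.restrict (IsIrrCharacter.isCharacter χ.2) C) isCharacter_one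
    obtain ⟨d, -, hd⟩ := IsIrrCharacter.exists_degree χ.2
    refine ⟨(Nat.card C : ℤ) * M - d, ?_⟩
    simp only [Cfsg.classInner, map_one, mul_one] at hM
    rw [inv_mul_eq_iff_eq_mul₀ (Nat.cast_ne_zero.mpr Nat.card_pos.ne')] at hM
    rw [hM, hd]
    push_cast
    ring
  -- values of the family on `C`
  have hXval : ∀ i, ∃ c : ℤ, ∀ x : N, (x : G) ∈ C → x ≠ 1 → θ i x = (ε : ℂ) * φ i x + (c : ℂ) := by
    intro i
    have hfc : Cfsg.IsClassFunction N (fun x : N => θ i x - (ε : ℂ) * φ i x) := fun a b => by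
      simp only
      rw [show θ i ((b * a * b⁻¹ : N) : G) = θ i (a : G) from hrescls ⟨θ i, hθirr i⟩ a b,
        IsCharacter.isClassFunction (IsIrrCharacter.isCharacter (hφirr i)) a b]
    obtain ⟨c, hc⟩ := hconst _ hfc (fun j k => by
      have h := hres ⟨θ i, hθirr i⟩ j k
      simp only [classInner_irr (hθirr i) (hθirr j), classInner_irr (hθirr i) (hθirr k), hθinj.eq_iff] at h
      have e : (fun x : N => θ i x - (ε : ℂ) * φ i x) = (fun x : N => θ i x) - (ε : ℂ) • φ i := rfl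
      rw [e, classInner_sub_left, classInner_sub_left, classInner_smul_left, classInner_smul_left,
        classInner_irr (hφirr i) (hφirr j), classInner_irr (hφirr i) (hφirr k)]
      simp only [hφinj.eq_iff]
      linear_combination h)
    obtain ⟨k, hk⟩ := hnat ⟨θ i, hθirr i⟩
    have hint : IsIntegral ℤ c := by
      rw [← hc ⟨x₀, Subgroup.le_normalizer hx₀⟩ hx₀ fun e => hx₀1 (congrArg Subtype.val e)]
      exact (IsCharacter.isIntegral (IsIrrCharacter.isCharacter (hθirr i)) _).sub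
        (isIntegral_algebraMap.mul (IsCharacter.isIntegral (IsIrrCharacter.isCharacter (hφirr i)) _))
    obtain ⟨c', hc'⟩ := exists_int_of_const C
      (f := fun g => θ i g - (ε : ℂ) * Cfsg.extendByZero N (φ i) g) (c := c)
      (k := k + 4 * ε) hint (fun x hx hx1 => by
        simp only [extendByZero_mem N (φ i) (Subgroup.le_normalizer hx)]
        exact hc ⟨x, Subgroup.le_normalizer hx⟩ hx fun e => hx1 (congrArg Subtype.val e))
      (by omega) (by
        simp only [Finset.sum_sub_distrib, ← Finset.mul_sum]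
        rw [Finset.sum_congr rfl (fun (x : C) _ => extendByZero_mem N (φ i) (Subgroup.le_normalizer x.2)),
          hsumC i, extendByZero_one, hφ1]
        push_cast
        linear_combination hk)
    exact ⟨c', fun x hx hx1 => by rw [← hc']; linear_combination hc x hx hx1⟩
  choose cc hcc using hXval
  let i₀ : Fin n := ⟨0, by omega⟩
  have hceq : ∀ i, cc i = cc i₀ := by
    intro i
    set x : N := ⟨x₀, Subgroup.le_normalizer hx₀⟩
    have hx1 : x ≠ 1 := fun e => hx₀1 (congrArg Subtype.val e)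
    have h := hD i i₀ (x : G)
    rw [hon, hcc i x hx₀ hx1, hcc i₀ x hx₀ hx1] at h
    have h' : (ε : ℂ) * (cc i - cc i₀) = 0 := by linear_combination -h + (φ i x - φ i₀ x) * (-hεε)
    rcases mul_eq_zero.mp h' with e | e
    · rw [e, zero_mul] at hεε; exact absurd hεε zero_ne_one
    · exact_mod_cast sub_eq_zero.mp e
  have hinjX : Function.Injective fun i => (⟨θ i, hθirr i⟩ : IrrCharacter G) := fun i j e =>
    hθinj (congrArg Subtype.val e)
  have hval : ∀ i, ∀ x ∈ C, ∀ hx1 : x ≠ 1, ∀ hxN : x ∈ N,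
      θ i x = (ε : ℂ) * φ i ⟨x, hxN⟩ + (cc i₀ : ℂ) := fun i x hx hx1 hxN => by
    have := hcc i ⟨x, hxN⟩ hx fun e => hx1 (congrArg Subtype.val e)
    rwa [hceq i] at this
  have hφsum : ∀ (f : IrrCharacter N → ℂ), ∑ i, f ⟨φ i, hφirr i⟩ = ∑ ξ ∈ rs, f ξ := fun f => by
    rw [← Finset.sum_coe_sort rs]
    exact Fintype.sum_equiv e.symm _ _ fun i => rfl
  have hφcol : ∀ x : N, (x : G) ∈ C → x ≠ 1 →
      ∑ i, φ i x = -1 ∧ ∑ i, φ i x * conj (φ i x) = (Nat.card C : ℂ) - 4 := by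
    intro x hx hx1
    have h1 := Frob.sum_rel_apply (K := K) (Subgroup.mem_subgroupOf.mpr hx) hx1
    rw [← hrs, hidx, Finset.sum_congr rfl (fun ξ hξ => by rw [hdeg ξ ((hmem ξ).mp hξ)]),
      ← Finset.mul_sum, ← hφsum fun ξ => (ξ : N → ℂ) x] at h1
    refine ⟨by push_cast at h1; linear_combination h1 / 4, ?_⟩
    have h2 := column_orth_of_isConj (IsConj.refl x)
    have h3 := Frob.sum_not_rel_sq (K := K)
    rw [hidx] at h3
    rw [← Finset.sum_filter_add_sum_filter_not Finset.univ (fun ξ : IrrCharacter N => Frob.Rel K (ξ : N → ℂ)),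
      ← hrs, Finset.sum_congr rfl (s₁ := Finset.univ.filter fun ξ : IrrCharacter N => ¬ Frob.Rel K (ξ : N → ℂ))
        (g := fun ξ : IrrCharacter N => (ξ : N → ℂ) 1 ^ 2) (fun ξ hξ => by
          rw [Frob.apply_of_not_rel (Finset.mem_filter.mp hξ).2 (Subgroup.mem_subgroupOf.mpr hx)]
          obtain ⟨d, -, hd⟩ := IsIrrCharacter.exists_degree ξ.2
          rw [hd, map_natCast, pow_two]), h3,
      ← hφsum fun ξ => (ξ : N → ℂ) x * conj ((ξ : N → ℂ) x)] at h2
    have hcent : Nat.card (Subgroup.centralizer ({x} : Set N)) = Nat.card C := by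
      rw [← hKC]
      refine congrArg (fun H : Subgroup N => Nat.card H) (le_antisymm (hF x (Subgroup.mem_subgroupOf.mpr hx) hx1) ?_)
      exact fun y hy => Subgroup.mem_centralizer_singleton_iff.mpr (hab y hy x (Subgroup.mem_subgroupOf.mpr hx))
    rw [hcent] at h2
    push_cast at h2
    linear_combination h2
  refine ⟨X, ε, cc i₀, ⟨?_, hε, ?_, ?_, ?_, ?_, ?_⟩⟩
  · rw [Finset.card_image_of_injective _ hinjX, Finset.card_univ, Fintype.card_fin]
  · intro χ hχ ψ hψ g hg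
    obtain ⟨i, hi⟩ := hXmem χ hχ
    obtain ⟨j, hj⟩ := hXmem ψ hψ
    rw [hi, hj]; exact hagree i j g hg
  · intro χ hχ
    have h0 : ∀ i, Cfsg.classInner (χ : G → ℂ) (θ i) = 0 := fun i =>
      classInner_irr_of_ne χ.2 (hθirr i) fun e => hχ (Finset.mem_image.mpr ⟨i, Finset.mem_univ _, Subtype.ext e.symm⟩)
    obtain ⟨c, hc⟩ := hconst _ (hrescls χ) (fun i j => by
      have := hres χ i j
      rw [h0, h0] at this
      linear_combination this)
    obtain ⟨k, hk⟩ := hnat χ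
    obtain ⟨c', hc'⟩ := exists_int_of_const C (f := (χ : G → ℂ))
      (by rw [← hc ⟨x₀, Subgroup.le_normalizer hx₀⟩ hx₀ fun e => hx₀1 (congrArg Subtype.val e)]
          exact IsCharacter.isIntegral (IsIrrCharacter.isCharacter χ.2) _)
      (fun x hx hx1 => hc ⟨x, Subgroup.le_normalizer hx⟩ hx fun e => hx1 (congrArg Subtype.val e))
      (by omega) hk
    exact ⟨c', fun x hx hx1 => by
      rw [← hc']; exact hc ⟨x, Subgroup.le_normalizer hx⟩ hx fun e => hx1 (congrArg Subtype.val e)⟩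
  · intro χ hχ c' hc'
    obtain ⟨i, hi⟩ := hXmem χ hχ
    have ha : ∀ x ∈ K, x ≠ 1 → φ i x = (ε : ℂ) * (c' - cc i₀) := by
      intro x hx hx1
      have hxC := Subgroup.mem_subgroupOf.mp hx
      have hx1' : (x : G) ≠ 1 := fun e => hx1 (Subtype.ext e)
      have h := hval i x hxC hx1' x.2
      rw [← hi, hc' x hxC hx1', Subtype.coe_eta] at h
      linear_combination -(ε : ℂ) * h - φ i x * hεε
    obtain ⟨j, hj⟩ : ∃ j, j ≠ i := by
      haveI : Nontrivial (Fin n) := Fin.nontrivial_iff_two_le.mpr hn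
      exact exists_ne i
    have h1 := Frob.proportional_of_const hF ha (hφirr i) (hφ i)
    have h2 := Frob.proportional_of_const hF ha (hφirr j) (hφ j)
    rw [classInner_self_irr (hφirr i), hφ1 i] at h1
    rw [classInner_irr_of_ne (hφirr i) (hφirr j) (fun e => hj (hφinj e).symm), hφ1 j, hφ1 i, ← h1] at h2
    exact zero_ne_one h2
  · intro x hx hx1
    rw [Finset.sum_image fun i _ j _ e => hinjX e,
      Finset.sum_congr rfl (fun i _ => hval i x hx hx1 (Subgroup.le_normalizer hx)),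
      Finset.sum_add_distrib, ← Finset.mul_sum, (hφcol ⟨x, Subgroup.le_normalizer hx⟩ hx fun e => hx1 (congrArg Subtype.val e)).1,
      Finset.sum_const, Finset.card_univ, Fintype.card_fin, nsmul_eq_mul]
    ring
  · intro x hx hx1
    obtain ⟨s1, s2⟩ := hφcol ⟨x, Subgroup.le_normalizer hx⟩ hx fun e => hx1 (congrArg Subtype.val e)
    have s1' : ∑ i, conj (φ i ⟨x, Subgroup.le_normalizer hx⟩) = -1 := by
      rw [← map_sum, s1, map_neg, map_one]
    rw [Finset.sum_image fun i _ j _ e => hinjX e]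
    simp only [hval _ x hx hx1 (Subgroup.le_normalizer hx), map_add, map_mul, map_intCast]
    rw [Finset.sum_congr rfl (g := fun i => φ i ⟨x, Subgroup.le_normalizer hx⟩ * conj (φ i ⟨x, Subgroup.le_normalizer hx⟩) +
      ((ε : ℂ) * (cc i₀ : ℂ)) * (φ i ⟨x, Subgroup.le_normalizer hx⟩ + conj (φ i ⟨x, Subgroup.le_normalizer hx⟩)) +
      (cc i₀ : ℂ) ^ 2) (fun i _ => by linear_combination (φ i ⟨x, Subgroup.le_normalizer hx⟩ * conj (φ i ⟨x, Subgroup.le_normalizer hx⟩)) * hεε)]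
    simp only [Finset.sum_add_distrib, ← Finset.mul_sum]
    rw [s1, s1', s2, Finset.sum_const, Finset.card_univ, Fintype.card_fin, nsmul_eq_mul]
    ring

end Cfsg.Agent.SzChar
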