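import Cfsg.Agent.Lib.SzChar.Values
import Cfsg.Agent.Lib.SzChar.Family
import Cfsg.Agent.Lib.SzChar.Arith

/-!
# The degrees of the irreducible characters of the Suzuki groups
-/

set_option autoImplicit false
set_option linter.unusedSectionVars false
set_option linter.style.haveILetI false

namespace Cfsg.Agent.SzChar

open Cfsg Cfsg.Agent.Char Cfsg.Agent.Suzuki
open scoped ComplexConjugate Classical

variable {F : Type*} [Field F] [Fintype F] {m : ℕ} (h : SzField F m)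
  [Fintype (Cfsg.Sz F m)]

include h

theorem isTor_mem {C : Subgroup (Cfsg.Sz F m)} (hC : IsMember C) {x : Cfsg.Sz F m} (hx : x ∈ C)
    (hx1 : x ≠ 1) : IsTor x := ⟨hx1, C, hC, hx⟩

theorem real_member {C : Subgroup (Cfsg.Sz F m)} (hC : IsMember C) {x : Cfsg.Sz F m} (hx : x ∈ C) :
    IsConj x x⁻¹ := by
  have hT := torType_member h hC
  haveI : Fact (Nat.Prime 2) := ⟨Nat.prime_two⟩
  obtain ⟨y, hy⟩ := exists_prime_orderOf_dvd_card' (G := Subgroup.normalizer (C : Set (Cfsg.Sz F m))) 2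
    (by rw [hT.card_normalizer]; exact (show 2 ∣ 4 by norm_num).trans (dvd_mul_right _ _))
  exact isConj_iff.mpr ⟨y, hT.invert h y.2 (by rw [Subgroup.orderOf_coe]; exact hy) hx⟩

theorem conj_real {C : Subgroup (Cfsg.Sz F m)} (hC : IsMember C) (χ : IrrCharacter (Cfsg.Sz F m))
    {x : Cfsg.Sz F m} (hx : x ∈ C) : conj ((χ : Cfsg.Sz F m → ℂ) x) = (χ : Cfsg.Sz F m → ℂ) x := by
  rw [← IsCharacter.inv (IsIrrCharacter.isCharacter χ.2)]
  exact ((isConj_iff_forall_irr x x⁻¹).mp (real_member h hC hx) χ).symm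

theorem not_conj_tori {C D : Subgroup (Cfsg.Sz F m)} (hC : IsMember C) (hD : IsMember D)
    (hcop : Nat.Coprime (Nat.card C) (Nat.card D)) {g x y : Cfsg.Sz F m} (hx : x ∈ C) (hx1 : x ≠ 1)
    (hy : y ∈ D) (hgx : IsConj g x) : ¬ IsConj g y := fun hgy => by
  obtain ⟨c, hc⟩ := isConj_iff.mp (hgx.symm.trans hgy)
  have h1 : orderOf x ∣ Nat.card D := by
    rw [← orderOf_conj_eq c x, hc]
    exact member_orderOf_dvd h hD hy
  exact hx1 (orderOf_eq_one_iff.mp (Nat.eq_one_of_dvd_coprimes hcop (member_orderOf_dvd h hC hx) h1))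

variable {P : Finset (IrrCharacter (Cfsg.Sz F m))} {st : IrrCharacter (Cfsg.Sz F m)}

theorem rest_values (K : Known h P st) {C : Subgroup (Cfsg.Sz F m)} (hC : IsMember C)
    {χ : IrrCharacter (Cfsg.Sz F m)} (hχ : χ ∉ rest P st) :
    ∃ c : ℂ, ∀ x ∈ C, x ≠ 1 → (χ : Cfsg.Sz F m → ℂ) x = c := by
  simp only [rest, Finset.mem_filter, Finset.mem_univ, true_and, not_and, not_not] at hχ
  by_cases hP : χ ∈ P
  · by_cases h1 : χ = ZassSuz.oneIrr _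
    · exact ⟨1, fun x _ _ => by rw [h1]; rfl⟩
    · exact ⟨0, fun x hx hx1 => K.tor_P χ hP h1 x (isTor_mem h hC hx hx1)⟩
  · exact ⟨-1, fun x hx hx1 => by rw [hχ hP]; exact K.st_tor x (isTor_mem h hC hx hx1)⟩

theorem fam_subset (K : Known h P st) {C : Subgroup (Cfsg.Sz F m)} (hC : IsMember C) {n : ℕ}
    {X : Finset (IrrCharacter (Cfsg.Sz F m))} {ε c : ℤ} (hX : Fam C n X ε c) : X ⊆ rest P st := by
  intro χ hχ
  by_contra hr
  obtain ⟨c', hc'⟩ := rest_values h K hC hr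
  exact hX.nonconst χ hχ c' hc'

theorem root_not_conj {C : Subgroup (Cfsg.Sz F m)} (hC : IsMember C) {g : Cfsg.Sz F m}
    (hg : g ∈ rootGroup h) : ∀ x ∈ C, x ≠ 1 → ¬ IsConj g x := fun x hx hx1 hc => by
  obtain ⟨u, hu⟩ := isConj_iff.mp hc.symm
  exact not_conj_root h (isTor_mem h hC hx hx1) u (hu ▸ hg)

theorem fam_not_nonreal {C : Subgroup (Cfsg.Sz F m)} (hC : IsMember C) {n : ℕ}
    {X : Finset (IrrCharacter (Cfsg.Sz F m))} {ε c : ℤ} (hX : Fam C n X ε c)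
    {W W' : IrrCharacter (Cfsg.Sz F m)}
    (hW' : ∀ g, (W' : Cfsg.Sz F m → ℂ) g = conj ((W : Cfsg.Sz F m → ℂ) g))
    (hne : (W : Cfsg.Sz F m → ℂ) (T h 1 0) ≠ conj ((W : Cfsg.Sz F m → ℂ) (T h 1 0))) :
    W ∉ X ∧ W' ∉ X := by
  have hboth : ¬ (W ∈ X ∧ W' ∈ X) := fun ⟨a, b⟩ => hne (by
    rw [← hW']
    exact hX.agree W a W' b _ (root_not_conj h hC ⟨_, _, rfl⟩))
  refine ⟨fun hW => ?_, fun hW => ?_⟩
  · obtain ⟨c', hc'⟩ := hX.other W' fun hb => hboth ⟨hW, hb⟩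
    refine hX.nonconst W hW (c' : ℂ) fun x hx hx1 => ?_
    rw [← conj_real h hC W hx, ← hW', hc' x hx hx1]
  · obtain ⟨c', hc'⟩ := hX.other W fun hb => hboth ⟨hb, hW⟩
    refine hX.nonconst W' hW (c' : ℂ) fun x hx hx1 => ?_
    rw [hW', conj_real h hC W hx, hc' x hx hx1]

/-- Equal values at one and at the root element give equal parameters. -/
theorem params_eq (K : Known h P st) {χ ψ : IrrCharacter (Cfsg.Sz F m)} (hχ : χ ∈ rest P st)
    (hψ : ψ ∈ rest P st) (h1 : (χ : Cfsg.Sz F m → ℂ) 1 = (ψ : Cfsg.Sz F m → ℂ) 1)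
    (hu : (χ : Cfsg.Sz F m → ℂ) (T h 1 0) + (χ : Cfsg.Sz F m → ℂ) (T h 1 0)⁻¹ =
      (ψ : Cfsg.Sz F m → ℂ) (T h 1 0) + (ψ : Cfsg.Sz F m → ℂ) (T h 1 0)⁻¹) :
    aOf h χ = aOf h ψ ∧ yOf h χ = yOf h ψ := by
  obtain ⟨-, -, e1, -, e3⟩ := rest_spec h K hχ
  obtain ⟨-, -, f1, -, f3⟩ := rest_spec h K hψ
  have hq := eight_le_q h
  rw [e1, f1] at h1
  rw [e3, f3] at hu
  refine ⟨by exact_mod_cast mul_left_cancel₀ (by norm_num : (-2 : ℂ) ≠ 0) hu, ?_⟩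
  have hne : (((2 : ℕ) ^ (2 * m + 1) : ℕ) : ℂ) - 1 ≠ 0 := by
    rw [sub_ne_zero]; exact_mod_cast (show (2 : ℕ) ^ (2 * m + 1) ≠ 1 by omega)
  exact_mod_cast mul_left_cancel₀ hne h1

theorem fam_params (K : Known h P st) {C : Subgroup (Cfsg.Sz F m)} (hC : IsMember C) {n : ℕ}
    {X : Finset (IrrCharacter (Cfsg.Sz F m))} {ε c : ℤ} (hX : Fam C n X ε c) :
    ∀ χ ∈ X, ∀ ψ ∈ X, aOf h χ = aOf h ψ ∧ yOf h χ = yOf h ψ := by
  intro χ hχ ψ hψ
  refine params_eq h K (fam_subset h K hC hX hχ) (fam_subset h K hC hX hψ) ?_ ?_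
  · exact hX.agree χ hχ ψ hψ 1 (root_not_conj h hC (rootGroup h).one_mem)
  · rw [hX.agree χ hχ ψ hψ _ (root_not_conj h hC ⟨_, _, rfl⟩),
      hX.agree χ hχ ψ hψ _ (root_not_conj h hC ((rootGroup h).inv_mem ⟨_, _, rfl⟩))]

theorem fam_member {C : Subgroup (Cfsg.Sz F m)} (hC : IsMember C) {n : ℕ} (hn : 2 ≤ n)
    (hc : Nat.card C = 4 * n + 1) : ∃ X ε c, Fam C n X ε c :=
  exists_fam C (member_ti h hC) (fun _ ha _ hb => member_comm h hC ha hb) hn hc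
    (torType_member h hC).card_normalizer

set_option maxHeartbeats 2000000 in
/-- The degrees of the irreducible characters. -/
theorem degrees :
    (∀ χ : IrrCharacter (Cfsg.Sz F m),
      Cfsg.charDegree (χ : Cfsg.Sz F m → ℂ) = 1 ∨
      Cfsg.charDegree (χ : Cfsg.Sz F m → ℂ) = (2 ^ (2 * m + 1)) ^ 2 ∨
      Cfsg.charDegree (χ : Cfsg.Sz F m → ℂ) = (2 ^ (2 * m + 1)) ^ 2 + 1 ∨
      Cfsg.charDegree (χ : Cfsg.Sz F m → ℂ) = (2 ^ (2 * m + 1) - 1) * (2 ^ (2 * m + 1) - 2 ^ (m + 1) + 1) ∨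
      Cfsg.charDegree (χ : Cfsg.Sz F m → ℂ) = (2 ^ (2 * m + 1) - 1) * (2 ^ (2 * m + 1) + 2 ^ (m + 1) + 1) ∨
      Cfsg.charDegree (χ : Cfsg.Sz F m → ℂ) = (2 ^ (2 * m + 1) - 1) * 2 ^ m) ∧
    ∀ d, d = (2 ^ (2 * m + 1)) ^ 2 ∨ d = (2 ^ (2 * m + 1)) ^ 2 + 1 ∨
      d = (2 ^ (2 * m + 1) - 1) * (2 ^ (2 * m + 1) - 2 ^ (m + 1) + 1) ∨
      d = (2 ^ (2 * m + 1) - 1) * (2 ^ (2 * m + 1) + 2 ^ (m + 1) + 1) ∨
      d = (2 ^ (2 * m + 1) - 1) * 2 ^ m →
      ∃ χ : IrrCharacter (Cfsg.Sz F m), Cfsg.charDegree (χ : Cfsg.Sz F m → ℂ) = d := by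
  obtain ⟨P, st, K⟩ := exists_known h
  obtain ⟨A, B, hA, hB, hcA, hcB, -, -, -⟩ := exists_tori h
  -- parameters
  obtain ⟨m', rfl⟩ : ∃ m', m = m' + 1 := ⟨m - 1, by have := h.one_le; omega⟩
  set t : ℕ := 2 ^ m' with ht
  have ht1 : 1 ≤ t := Nat.one_le_two_pow
  have hq : (2 : ℕ) ^ (2 * (m' + 1) + 1) = 8 * t ^ 2 := by rw [ht, ← pow_mul]; ring
  have hr : (2 : ℕ) ^ (m' + 1 + 1) = 4 * t := by rw [ht]; ring
  have hs : (2 : ℕ) ^ (m' + 1) = 2 * t := by rw [ht]; ring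
  obtain ⟨t', ht'⟩ : ∃ t', t = t' + 1 := ⟨t - 1, by omega⟩
  set nA : ℕ := t * (2 * t + 1) with hnA
  set nB : ℕ := t * (2 * t' + 1) with hnB
  have hnBz : (nB : ℤ) = (t : ℤ) * (2 * (t : ℤ) - 1) := by rw [hnB, ht']; push_cast; ring
  have hnAz : (nA : ℤ) = (t : ℤ) * (2 * (t : ℤ) + 1) := by rw [hnA]; push_cast; ring
  have h4t : 4 * t ≤ 8 * t ^ 2 := by nlinarith
  have hcA' : Nat.card A = 4 * nA + 1 := by rw [hcA, hq, hr, hnA]; ring
  have hcB' : Nat.card B = 4 * nB + 1 := by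
    rw [hcB, hq, hr]
    zify [h4t]
    rw [hnBz]
    ring
  have hnA3 : 2 ≤ nA := by rw [hnA]; nlinarith
  obtain ⟨XA, εA, cA, hXA⟩ := fam_member h hA hnA3 hcA'
  -- a nonreal character
  obtain ⟨W, hW⟩ : ∃ W : IrrCharacter (Cfsg.Sz F (m' + 1)),
      (W : Cfsg.Sz F (m' + 1) → ℂ) (T h 1 0) ≠ (W : Cfsg.Sz F (m' + 1) → ℂ) (T h 1 0)⁻¹ := by
    by_contra hc
    push Not at hc
    exact not_conj_one_inv h ((isConj_iff_forall_irr _ _).mpr hc)
  rw [IsCharacter.inv (IsIrrCharacter.isCharacter W.2)] at hW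
  let W' : IrrCharacter (Cfsg.Sz F (m' + 1)) := ⟨fun g => conj ((W : Cfsg.Sz F (m' + 1) → ℂ) g),
    IsIrrCharacter.conj W.2⟩
  have hW' : ∀ g, (W' : Cfsg.Sz F (m' + 1) → ℂ) g = conj ((W : Cfsg.Sz F (m' + 1) → ℂ) g) := fun _ => rfl
  have hWne : W ≠ W' := fun e => hW (by
    conv_lhs => rw [e])
  have hWrest : W ∈ rest P st ∧ W' ∈ rest P st := by
    have hval : ∀ χ : IrrCharacter (Cfsg.Sz F (m' + 1)), χ ∉ rest P st →
        conj ((χ : Cfsg.Sz F (m' + 1) → ℂ) (T h 1 0)) = (χ : Cfsg.Sz F (m' + 1) → ℂ) (T h 1 0) := by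
      intro χ hχ
      simp only [rest, Finset.mem_filter, Finset.mem_univ, true_and, not_and, not_not] at hχ
      have hu1 : T h 1 0 ≠ 1 := fun e => one_ne_zero ((eq_one_iff_T h).mp e).1
      by_cases hP : χ ∈ P
      · rw [K.root_P χ hP _ ⟨_, _, rfl⟩ hu1, map_one]
      · rw [hχ hP, K.st_root _ ⟨_, _, rfl⟩ hu1, map_zero]
    refine ⟨by_contra fun hn => hW (hval W hn).symm, by_contra fun hn => hW ?_⟩
    have := hval W' hn
    rwa [hW', Complex.conj_conj] at this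
  obtain ⟨hWA, hW'A⟩ := fam_not_nonreal h hA hXA hW' hW
  set U := XA ∪ {W, W'} with hU
  have hUd : Disjoint XA ({W, W'} : Finset _) := by
    simp [Finset.disjoint_insert_right, hWA, hW'A]
  have hUsub : U ⊆ rest P st := by
    refine Finset.union_subset (fam_subset h K hA hXA) ?_
    simp [Finset.insert_subset_iff, hWrest.1, hWrest.2]
  have hUcard : U.card = nA + 2 := by
    rw [hU, Finset.card_union_of_disjoint hUd, hXA.card, Finset.card_pair hWne]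
  set R := rest P st \ U with hR
  have hnAB : nA + nB = 4 * t ^ 2 := by
    zify; rw [hnAz, hnBz]; ring
  have hRle : R.card ≤ nB := by
    have h1 := card_irr_le h
    rw [card_split h K] at h1
    have h2 := K.card_P
    rw [hR, Finset.card_sdiff_of_subset hUsub, hUcard]
    rw [hq] at h1 h2
    omega
  obtain ⟨x₀, hx₀, hx₀1⟩ : ∃ x ∈ A, x ≠ 1 := by
    have : A ≠ ⊥ := fun e => by rw [e, Subgroup.card_bot] at hcA'; omega
    exact (Subgroup.bot_or_exists_ne_one A).resolve_left this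
  -- the remaining characters
  have hRprop : (2 ≤ t → R.card = nB) ∧ ∀ χ ∈ R, ∀ ψ ∈ R,
      (aOf h χ = aOf h ψ ∧ yOf h χ = yOf h ψ) ∧
        (χ : Cfsg.Sz F (m' + 1) → ℂ) x₀ = (ψ : Cfsg.Sz F (m' + 1) → ℂ) x₀ := by
    by_cases hnB2 : 2 ≤ nB
    · obtain ⟨XB, εB, cB, hXB⟩ := fam_member h hB hnB2 hcB'
      obtain ⟨hWB, hW'B⟩ := fam_not_nonreal h hB hXB hW' hW
      have hcop : Nat.Coprime (Nat.card A) (Nat.card B) := by
        refine (torusOrders_spec (m := m' + 1) (k := Nat.card B) ?_).2 _ ?_ ?_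
        · rw [hcB]; exact Or.inr (Or.inr rfl)
        · rw [hcA]; exact Or.inr (Or.inl rfl)
        · rw [hcA, hcB]; omega
      have hone : ∀ χ ∈ XA, ∀ ψ ∈ XA, χ ∈ XB → ψ ∈ XB → χ = ψ := by
        intro χ hχ ψ hψ hχB hψB
        refine Subtype.ext (funext fun g => ?_)
        by_cases hg : ∀ x ∈ A, x ≠ 1 → ¬ IsConj g x
        · exact hXA.agree χ hχ ψ hψ g hg
        · push Not at hg
          obtain ⟨x, hx, hx1, hgx⟩ := hg
          exact hXB.agree χ hχB ψ hψB g fun y hy _ => not_conj_tori h hA hB hcop hx hx1 hy hgx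
      have hdis : ∀ χ ∈ XB, χ ∉ XA := by
        intro χ hχ hχA
        obtain ⟨ψ, hψ, hne⟩ := Finset.exists_mem_ne (by rw [hXB.card]; omega) χ
        obtain ⟨c', hc'⟩ := hXA.other ψ fun hψA => hne (hone ψ hψA χ hχA hψ hχ)
        refine hXA.nonconst χ hχA (c' : ℂ) fun x hx hx1 => ?_
        rw [← hc' x hx hx1]
        exact hXB.agree χ hχ ψ hψ x fun y hy _ =>
          not_conj_tori h hA hB hcop hx hx1 hy (IsConj.refl x)
      have hsub : XB ⊆ R := by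
        intro χ hχ
        refine Finset.mem_sdiff.mpr ⟨fam_subset h K hB hXB hχ, fun hu => ?_⟩
        rcases Finset.mem_union.mp hu with e | e
        · exact hdis χ hχ e
        · rcases Finset.mem_insert.mp e with rfl | e
          · exact hWB hχ
          · exact hW'B (Finset.mem_singleton.mp e ▸ hχ)
      have hRB : XB = R := Finset.eq_of_subset_of_card_le hsub (hXB.card ▸ hRle)
      refine ⟨fun _ => hRB ▸ hXB.card, fun χ hχ ψ hψ => ?_⟩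
      rw [← hRB] at hχ hψ
      exact ⟨fam_params h K hB hXB χ hχ ψ hψ, hXB.agree χ hχ ψ hψ x₀ fun y hy _ =>
        not_conj_tori h hA hB hcop hx₀ hx₀1 hy (IsConj.refl x₀)⟩
    · refine ⟨fun h2 => absurd (show 2 ≤ nB by rw [hnB]; nlinarith) hnB2, fun χ hχ ψ hψ => ?_⟩
      have : χ = ψ := Finset.card_le_one.mp (by omega) χ hχ ψ hψ
      subst this
      exact ⟨⟨rfl, rfl⟩, rfl⟩
  -- common parameters
  obtain ⟨χA, hχA⟩ : XA.Nonempty := Finset.card_pos.mp (by rw [hXA.card]; omega)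
  obtain ⟨w, hw⟩ := hXA.other W hWA
  have hWx : (W : Cfsg.Sz F (m' + 1) → ℂ) x₀ = (w : ℂ) ∧ (W' : Cfsg.Sz F (m' + 1) → ℂ) x₀ = (w : ℂ) :=
    ⟨hw x₀ hx₀ hx₀1, by rw [hW', conj_real h hA W hx₀, hw x₀ hx₀ hx₀1]⟩
  have hWp : aOf h W' = aOf h W ∧ yOf h W' = yOf h W := by
    refine params_eq h K hWrest.2 hWrest.1 ?_ ?_
    · rw [hW', conj_one h K]
    · rw [hW', hW', IsCharacter.inv (IsIrrCharacter.isCharacter W.2), Complex.conj_conj, add_comm]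
  obtain ⟨aB, yB, cB, haB, hRB0, hRv⟩ : ∃ aB yB cB : ℤ, 0 ≤ aB ∧ (R.card = 0 → aB = 0 ∧ yB = 0 ∧ cB = 0) ∧
      ∀ χ ∈ R, aOf h χ = aB ∧ yOf h χ = yB ∧ (χ : Cfsg.Sz F (m' + 1) → ℂ) x₀ = (cB : ℂ) := by
    rcases R.eq_empty_or_nonempty with e | ⟨ψ, hψ⟩
    · exact ⟨0, 0, 0, le_rfl, fun _ => ⟨rfl, rfl, rfl⟩, fun χ hχ => by rw [e] at hχ; simp at hχ⟩
    · obtain ⟨hψr, hψU⟩ := Finset.mem_sdiff.mp hψ
      obtain ⟨cB, hcB0⟩ := hXA.other ψ fun e => hψU (Finset.mem_union_left _ e)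
      refine ⟨aOf h ψ, yOf h ψ, cB, (rest_spec h K hψr).1, fun e => absurd e (Finset.card_ne_zero_of_mem hψ),
        fun χ hχ => ?_⟩
      obtain ⟨⟨e1, e2⟩, e3⟩ := hRprop.2 χ hχ ψ hψ
      exact ⟨e1, e2, e3.trans (hcB0 x₀ hx₀ hx₀1)⟩
  have hAp := fam_params h K hA hXA
  have hsplit : ∀ f : IrrCharacter (Cfsg.Sz F (m' + 1)) → ℂ,
      ∑ χ ∈ rest P st, f χ = (∑ χ ∈ XA, f χ) + (f W + f W') + ∑ χ ∈ R, f χ := fun f => by
    rw [← Finset.sum_sdiff hUsub, hU, Finset.sum_union hUd, Finset.sum_pair hWne]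
    ring
  have hsplitZ : ∀ f : IrrCharacter (Cfsg.Sz F (m' + 1)) → ℤ,
      ∑ χ ∈ rest P st, f χ = (∑ χ ∈ XA, f χ) + (f W + f W') + ∑ χ ∈ R, f χ := fun f => by
    rw [← Finset.sum_sdiff hUsub, hU, Finset.sum_union hUd, Finset.sum_pair hWne]
    ring
  -- the relations
  obtain ⟨s1, s2, s3⟩ := root_sums h K
  have cst : ∀ (f : IrrCharacter (Cfsg.Sz F (m' + 1)) → ℤ) (a b : ℤ), (∀ χ ∈ XA, f χ = a) →
      (∀ χ ∈ R, f χ = b) → ∑ χ ∈ rest P st, f χ = (nA : ℤ) * a + (f W + f W') + (R.card : ℤ) * b := by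
    intro f a b ha hb
    rw [hsplitZ, Finset.sum_congr rfl ha, Finset.sum_congr rfl hb, Finset.sum_const, Finset.sum_const,
      hXA.card, nsmul_eq_mul, nsmul_eq_mul]
  rw [cst _ (aOf h χA ^ 2) (aB ^ 2) (fun χ hχ => by rw [(hAp χ hχ χA hχA).1])
    (fun χ hχ => by rw [(hRv χ hχ).1]), hWp.1, hq] at s1
  rw [cst _ (aOf h χA * yOf h χA) (aB * yB) (fun χ hχ => by rw [(hAp χ hχ χA hχA).1, (hAp χ hχ χA hχA).2])
    (fun χ hχ => by rw [(hRv χ hχ).1, (hRv χ hχ).2.1]), hWp.1, hWp.2, hq] at s2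
  rw [cst _ (yOf h χA ^ 2) (yB ^ 2) (fun χ hχ => by rw [(hAp χ hχ χA hχA).2])
    (fun χ hχ => by rw [(hRv χ hχ).2.1]), hWp.2, hq] at s3
  obtain ⟨u1, u2, u3⟩ := tor_sums h K (isTor_mem h hA hx₀ hx₀1)
  rw [hsplit, hXA.col_norm x₀ hx₀ hx₀1, hWx.1, hWx.2, member_ti h hA x₀ hx₀ hx₀1,
    Finset.sum_congr rfl (fun χ hχ => by rw [(hRv χ hχ).2.2]), Finset.sum_const, nsmul_eq_mul] at u1
  rw [hsplit, Finset.sum_congr rfl (fun χ hχ => by rw [(hAp χ hχ χA hχA).2]), ← Finset.mul_sum,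
    hXA.col_sum x₀ hx₀ hx₀1, hWx.1, hWx.2, hWp.2,
    Finset.sum_congr rfl (fun χ hχ => by rw [(hRv χ hχ).2.1, (hRv χ hχ).2.2]), Finset.sum_const,
    nsmul_eq_mul, hq] at u2
  rw [hsplit, Finset.sum_congr rfl (fun χ hχ => by rw [(hAp χ hχ χA hχA).1]), ← Finset.mul_sum,
    hXA.col_sum x₀ hx₀ hx₀1, hWx.1, hWx.2, hWp.1,
    Finset.sum_congr rfl (fun χ hχ => by rw [(hRv χ hχ).1, (hRv χ hχ).2.2]), Finset.sum_const,
    nsmul_eq_mul] at u3
  have hN : 2 * w ^ 2 + (R.card : ℤ) * cB ^ 2 = 2 + 2 * εA * cA - (nA : ℤ) * cA ^ 2 := by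
    simp only [map_intCast] at u1
    refine Int.cast_injective (α := ℂ) ?_
    push_cast
    linear_combination u1
  have hY : yOf h χA * (-εA + (nA : ℤ) * cA) + 2 * w * yOf h W + (R.card : ℤ) * (cB * yB) =
      8 * (t : ℤ) ^ 2 + 1 := by
    refine Int.cast_injective (α := ℂ) ?_
    push_cast at u2 ⊢
    linear_combination u2
  have hAe : aOf h χA * (-εA + (nA : ℤ) * cA) + 2 * w * aOf h W + (R.card : ℤ) * (cB * aB) = 1 := by
    refine Int.cast_injective (α := ℂ) ?_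
    push_cast at u3 ⊢
    linear_combination u3
  have hA0 := rest_spec h K (fam_subset h K hA hXA hχA)
  have hW0 := rest_spec h K hWrest.1
  have hyWpos : 0 < yOf h W := by
    obtain ⟨d, hd0, hd⟩ := IsIrrCharacter.exists_degree W.2
    have e : (d : ℤ) = (8 * (t : ℤ) ^ 2 - 1) * yOf h W := by
      have := hd.symm.trans hW0.2.2.1
      rw [hq] at this
      refine Int.cast_injective (α := ℂ) ?_
      push_cast at this ⊢
      linear_combination this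
    have hd1 : (0 : ℤ) < (8 * (t : ℤ) ^ 2 - 1) * yOf h W := e ▸ (by exact_mod_cast hd0)
    exact pos_of_mul_pos_right hd1 (by nlinarith [show (1 : ℤ) ≤ t by exact_mod_cast ht1])
  push_cast at s1 s2 s3
  rw [hnAz] at hN hY hAe s1 s2 s3
  obtain ⟨ey, eW, eB, eR⟩ := degrees_arith (t := (t : ℤ)) (ε := εA) (c := cA) (w := w) (R := (R.card : ℤ))
    (aA := aOf h χA) (yA := yOf h χA) (aW := aOf h W) (yW := yOf h W) (aB := aB) (yB := yB) (cB := cB)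
    (by exact_mod_cast ht1) hXA.sign (Int.natCast_nonneg _) (by rw [← hnBz]; exact_mod_cast hRle)
    (fun h2 => by rw [← hnBz]; exact_mod_cast hRprop.1 (by exact_mod_cast h2))
    hA0.1 hW0.1 haB hyWpos hA0.2.1 hN hY hAe (by linarith) (by linarith) (by linarith)
  -- degrees
  have hdegY : ∀ χ ∈ rest P st, ∀ y : ℕ, yOf h χ = (y : ℤ) →
      Cfsg.charDegree (χ : Cfsg.Sz F (m' + 1) → ℂ) = (2 ^ (2 * (m' + 1) + 1) - 1) * y := by
    intro χ hχ y hy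
    have e := (rest_spec h K hχ).2.2.1
    rw [CharX.irr_deg, hy] at e
    refine Nat.cast_injective (R := ℂ) ?_
    rw [e, Nat.cast_mul, Nat.cast_sub Nat.one_le_two_pow, Nat.cast_one, Int.cast_natCast]
  have hyA : (((2 : ℕ) ^ (2 * (m' + 1) + 1) - 2 ^ (m' + 1 + 1) + 1 : ℕ) : ℤ) = yOf h χA := by
    rw [hq, hr, Nat.cast_add, Nat.cast_sub h4t, ey]; push_cast; ring
  have hyB : (((2 : ℕ) ^ (2 * (m' + 1) + 1) + 2 ^ (m' + 1 + 1) + 1 : ℕ) : ℤ) = yB := by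
    rw [hq, hr, eB]; push_cast; ring
  have hyW : (((2 : ℕ) ^ (m' + 1) : ℕ) : ℤ) = yOf h W := by rw [hs, eW]; push_cast; ring
  have hdP : ∀ χ ∈ P, χ ≠ ZassSuz.oneIrr _ →
      Cfsg.charDegree (χ : Cfsg.Sz F (m' + 1) → ℂ) = (2 ^ (2 * (m' + 1) + 1)) ^ 2 + 1 := fun χ hχ e => by
    have := K.deg_P χ hχ e
    rw [CharX.irr_deg] at this
    exact Nat.cast_injective this
  have hdst : Cfsg.charDegree (st : Cfsg.Sz F (m' + 1) → ℂ) = (2 ^ (2 * (m' + 1) + 1)) ^ 2 := by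
    have := K.st_one
    rw [CharX.irr_deg] at this
    exact Nat.cast_injective this
  refine ⟨fun χ => ?_, fun d hd => ?_⟩
  · by_cases hr' : χ ∈ rest P st
    · have hmem : χ ∈ U ∨ χ ∈ R := (em (χ ∈ U)).imp id fun e => Finset.mem_sdiff.mpr ⟨hr', e⟩
      rcases hmem with hu | hu
      · rcases Finset.mem_union.mp hu with e | e
        · refine Or.inr (Or.inr (Or.inr (Or.inl ?_)))
          exact hdegY χ hr' _ ((hAp χ e χA hχA).2.trans hyA.symm)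
        · refine Or.inr (Or.inr (Or.inr (Or.inr (Or.inr ?_))))
          refine hdegY χ hr' _ ?_
          rcases Finset.mem_insert.mp e with rfl | e
          · exact hyW.symm
          · rw [Finset.mem_singleton.mp e, hWp.2, hyW]
      · refine Or.inr (Or.inr (Or.inr (Or.inr (Or.inl ?_))))
        exact hdegY χ hr' _ ((hRv χ hu).2.1.trans hyB.symm)
    · simp only [rest, Finset.mem_filter, Finset.mem_univ, true_and, not_and, not_not] at hr'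
      by_cases hP : χ ∈ P
      · by_cases h1 : χ = ZassSuz.oneIrr _
        · exact Or.inl (by rw [h1]; exact CharX.charDegree_one)
        · exact Or.inr (Or.inr (Or.inl (hdP χ hP h1)))
      · exact Or.inr (Or.inl (by rw [hr' hP]; exact hdst))
  · rcases hd with rfl | rfl | rfl | rfl | rfl
    · exact ⟨st, hdst⟩
    · obtain ⟨χ, hχ, hne⟩ := Finset.exists_mem_ne (s := P) (by
        have := K.card_P; rw [hq] at this; nlinarith) (ZassSuz.oneIrr _)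
      exact ⟨χ, hdP χ hχ hne⟩
    · exact ⟨χA, hdegY χA (fam_subset h K hA hXA hχA) _ hyA.symm⟩
    · have hRpos : 0 < R.card := by
        have : (R.card : ℤ) = (nB : ℤ) := by rw [eR, hnBz]
        have hp : 0 < nB := by rw [hnB]; positivity
        omega
      obtain ⟨χ, hχ⟩ := Finset.card_pos.mp hRpos
      exact ⟨χ, hdegY χ (Finset.mem_sdiff.mp hχ).1 _ ((hRv χ hχ).2.1.trans hyB.symm)⟩
    · exact ⟨W, hdegY W hWrest.1 _ hyW.symm⟩

end Cfsg.Agent.SzChar
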