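import Cfsg.Agent.Lib.ZassSuz.Main
import Cfsg.Agent.Lib.Suzuki.TorType
import Cfsg.Agent.Lib.Char.Degree
import Cfsg.Agent.S0327
import Cfsg.Agent.S0165

/-!
# Classes and the characters containing the trivial character of the root group
-/

set_option autoImplicit false
set_option linter.unusedSectionVars false
set_option linter.style.haveILetI false

namespace Cfsg.Agent.SzChar

open Cfsg Cfsg.Agent.Char Cfsg.Agent.Suzuki MulAction
open scoped ComplexConjugate Classical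

variable {F : Type*} [Field F] [Fintype F] {m : ℕ} (h : SzField F m)

/-- A nonidentity element of one of the two anisotropic tori. -/
def IsTor (g : Cfsg.Sz F m) : Prop := g ≠ 1 ∧ ∃ C, IsMember C ∧ g ∈ C

include h

theorem not_conj_root {g : Cfsg.Sz F m} (hg : IsTor g) (u : Cfsg.Sz F m) :
    u * g * u⁻¹ ∉ rootGroup h := fun hu => by
  obtain ⟨h1, C, hC, hgC⟩ := hg
  exact not_fixFree_of_conj_borel h (rootGroup_le_borel h hu) (fixFree_of_mem_member h hC hgC h1)

/-! ### Elements of the root group -/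

/-- A root element of order four is conjugate to `T(1, 0)` or to its inverse. -/
theorem conj_T {a b : F} (ha : a ≠ 0) :
    IsConj (T h a b) (T h 1 0) ∨ IsConj (T h a b) (T h 1 0)⁻¹ := by
  let f : F → F := fun c => θ m c + c
  have hadd : ∀ c d, f (c + d) = f c + f d := fun c d => by simp only [f, h.θ_add]; ring
  have hker : ∀ c, f c = 0 → c = 0 ∨ c = 1 := fun c hc =>
    h.θ_eq_self ((h.eq_iff_add_eq_zero _ _).mpr hc)
  have hno : ∀ c, f c ≠ 1 := fun c hc => h.add_θ_ne_one c (by rw [add_comm]; exact hc)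
  have hfib : ∀ t ∈ Finset.univ.image f, (Finset.univ.filter fun c => f c = t).card ≤ 2 := by
    intro t ht
    obtain ⟨c₀, -, rfl⟩ := Finset.mem_image.mp ht
    refine (Finset.card_le_card (t := ({c₀, c₀ + 1} : Finset F)) fun c hc => ?_).trans Finset.card_le_two
    have e := (Finset.mem_filter.mp hc).2
    have h0 : f (c + c₀) = 0 := by rw [hadd, e, h.add_self]
    rcases hker _ h0 with e' | e'
    · exact Finset.mem_insert.mpr (Or.inl ((h.eq_iff_add_eq_zero _ _).mpr e'))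
    · refine Finset.mem_insert.mpr (Or.inr (Finset.mem_singleton.mpr ?_))
      rw [← e']; linear_combination -h.add_self c₀
  set I := Finset.univ.image f with hI
  have hImem : ∀ d, d ∈ I → d + 1 ∉ I := fun d hd hd1 => by
    obtain ⟨c, -, hc⟩ := Finset.mem_image.mp hd
    obtain ⟨c', -, hc'⟩ := Finset.mem_image.mp hd1
    refine hno (c + c') ?_
    rw [hadd, hc, hc', ← add_assoc, h.add_self, zero_add]
  have hI2 : Fintype.card F ≤ 2 * I.card := by
    have := Finset.card_le_mul_card_image (f := f) (Finset.univ : Finset F) 2 hfib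
    rwa [Finset.card_univ] at this
  have hcov : ∀ d : F, d ∈ I ∨ d + 1 ∈ I := by
    intro d
    have hdisj : Disjoint I (I.image (· + 1)) := Finset.disjoint_left.mpr fun x hx hx' => by
      obtain ⟨y, hy, rfl⟩ := Finset.mem_image.mp hx'
      exact hImem y hy hx
    have hu : I ∪ I.image (· + 1) = Finset.univ := by
      refine Finset.eq_univ_of_card _ (le_antisymm (Finset.card_le_univ _) ?_)
      rw [Finset.card_union_of_disjoint hdisj,
        Finset.card_image_of_injective _ (add_left_injective (1 : F))]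
      omega
    rcases Finset.mem_union.mp (hu ▸ Finset.mem_univ d) with hd | hd
    · exact Or.inl hd
    · obtain ⟨y, hy, rfl⟩ := Finset.mem_image.mp hd
      exact Or.inr (by rwa [add_assoc, h.add_self, add_zero])
  set k : Fˣ := (Units.mk0 a ha)⁻¹
  obtain ⟨b', hb'⟩ : ∃ b', IsConj (T h a b) (T h 1 b') := by
    refine ⟨θ m (k : F) * k * b, isConj_iff.mpr ⟨H h k, ?_⟩⟩
    rw [H_conj_T, show (k : F) * a = 1 by simp [k, ha]]
  have key : ∀ c, IsConj (T h 1 b') (T h 1 (f c + b')) := fun c => by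
    refine isConj_iff.mpr ⟨T h c 0, ?_⟩
    rw [T_conj]
    congr 1
    simp only [f, mul_one, θ_one, one_mul]
  rcases hcov b' with hb | hb <;> obtain ⟨c, -, hc⟩ := Finset.mem_image.mp hb
  · left
    refine hb'.trans ?_
    have := key c
    rwa [hc, h.add_self] at this
  · right
    refine hb'.trans ?_
    have := key c
    rw [hc, show b' + 1 + b' = 1 by linear_combination h.add_self b'] at this
    rwa [T_inv, show (0 : F) + θ m 1 * 1 = 1 by simp]

theorem conj_Z {b : F} (hb : b ≠ 0) : IsConj (T h 0 b) (T h 0 1) := by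
  obtain ⟨k, hk⟩ := exists_H_conj h hb one_ne_zero
  exact isConj_iff.mpr ⟨_, hk⟩

theorem orderOf_T_one : orderOf (T h 1 0) = 2 ^ (1 + 1) := by
  have : Fact (Nat.Prime 2) := ⟨Nat.prime_two⟩
  refine orderOf_eq_prime_pow ?_ ?_
  · rw [pow_one, pow_two]; exact T_one_zero_sq_ne h
  · rw [show (2 : ℕ) ^ (1 + 1) = 2 * 2 from rfl, pow_mul, pow_two, pow_two, T_sq, T_sq]
    exact (eq_one_iff_T h).mpr ⟨rfl, by simp⟩

theorem not_conj_one_inv : ¬ IsConj (T h 1 0) (T h 1 0)⁻¹ := fun e => by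
  have h1 : T h 1 0 ≠ 1 := fun e => one_ne_zero ((eq_one_iff_T h).mp e).1
  have h4 : orderOf (T h 1 0) = 2 :=
    (real_iff h (n := 2) (by rw [← orderOf_dvd_iff_pow_eq_one, orderOf_T_one]) h1).mp e
  rw [orderOf_T_one] at h4
  norm_num at h4

/-- Every element is conjugate to one of four root elements or to an element of a torus. -/
theorem class_cover {A B : Subgroup (Cfsg.Sz F m)}
    (hall : ∀ C, IsMember C → ConjTo A C ∨ ConjTo B C) (g : Cfsg.Sz F m) :
    IsConj g 1 ∨ IsConj g (T h 0 1) ∨ IsConj g (T h 1 0) ∨ IsConj g (T h 1 0)⁻¹ ∨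
      ∃ x, x ≠ 1 ∧ IsConj g x ∧ (x ∈ torus h ∨ x ∈ A ∨ x ∈ B) := by
  by_cases hg : g = 1
  · exact Or.inl (hg ▸ IsConj.refl _)
  have hne : ∀ u : Cfsg.Sz F m, u * g * u⁻¹ ≠ 1 := fun u e => hg (conj_eq_one_iff.mp e)
  rcases classify h hg with ⟨u, hu⟩ | ⟨u, hu⟩ | ⟨C, hC, hgC⟩
  · have hc : IsConj g (u * g * u⁻¹) := isConj_iff.mpr ⟨u, rfl⟩
    obtain ⟨a, b, hab⟩ := hu
    have h1 := hne u
    rw [hab] at hc h1
    by_cases ha : a = 0
    · subst ha
      exact Or.inr (Or.inl (hc.trans (conj_Z h fun hb => h1 ((eq_one_iff_T h).mpr ⟨rfl, hb⟩))))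
    · rcases conj_T h (b := b) ha with e | e
      · exact Or.inr (Or.inr (Or.inl (hc.trans e)))
      · exact Or.inr (Or.inr (Or.inr (Or.inl (hc.trans e))))
  · exact Or.inr (Or.inr (Or.inr (Or.inr ⟨_, hne u, isConj_iff.mpr ⟨u, rfl⟩, Or.inl hu⟩)))
  · refine Or.inr (Or.inr (Or.inr (Or.inr ?_)))
    rcases hall C hC with ⟨u, hu⟩ | ⟨u, hu⟩
    · exact ⟨_, hne u, isConj_iff.mpr ⟨u, rfl⟩, Or.inr (Or.inl ((hu g).mp hgC))⟩
    · exact ⟨_, hne u, isConj_iff.mpr ⟨u, rfl⟩, Or.inr (Or.inr ((hu g).mp hgC))⟩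

variable [Fintype (Cfsg.Sz F m)]

omit h in
/-- A torus meets few classes. -/
theorem torus_classes {C : Subgroup (Cfsg.Sz F m)} {e : ℕ} (hC : TorType C e) :
    e * ((Finset.univ.filter fun x : Cfsg.Sz F m => x ∈ C ∧ x ≠ 1).image ConjClasses.mk).card ≤
      Nat.card C - 1 := by
  set s : Finset (Cfsg.Sz F m) := Finset.univ.filter fun x => x ∈ C ∧ x ≠ 1 with hs
  have hscard : s.card = Nat.card C - 1 := by
    have h0 : s = (Finset.univ.filter fun x : Cfsg.Sz F m => x ∈ C).erase 1 := by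
      ext x; simp [hs, and_comm]
    rw [h0, Finset.card_erase_of_mem (by simp [C.one_mem]), ← Fintype.card_subtype,
      ← Nat.card_eq_fintype_card]
  rw [← hscard]
  refine Finset.mul_card_image_le_card s e fun K hK => ?_
  obtain ⟨x, hx, rfl⟩ := Finset.mem_image.mp hK
  obtain ⟨hxC, hx1⟩ := (Finset.mem_filter.mp hx).2
  set t : Finset (Cfsg.Sz F m) := Finset.univ.filter fun n => n ∈ Subgroup.normalizer (C : Set _) with ht
  have hfib : ∀ y ∈ t.image (fun n => n * x * n⁻¹),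
      (t.filter fun n => n * x * n⁻¹ = y).card ≤ Nat.card C := by
    intro y hy
    obtain ⟨n₀, -, rfl⟩ := Finset.mem_image.mp hy
    rw [Nat.card_eq_fintype_card, Fintype.card_subtype]
    refine Finset.card_le_card_of_injOn (fun n => n₀⁻¹ * n) (fun n hn => ?_)
      fun a _ b _ hab => mul_left_cancel hab
    refine Finset.mem_filter.mpr ⟨Finset.mem_univ _, ?_⟩
    rw [← hC.ti x hxC hx1, Subgroup.mem_centralizer_singleton_iff]
    have e' := (Finset.mem_filter.mp hn).2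
    calc n₀⁻¹ * n * x = n₀⁻¹ * (n * x * n⁻¹) * n := by group
      _ = n₀⁻¹ * (n₀ * x * n₀⁻¹) * n := by rw [e']
      _ = x * (n₀⁻¹ * n) := by group
  have h1 := Finset.card_le_mul_card_image t (Nat.card C) hfib
  have htcard : t.card = e * Nat.card C := by
    rw [← hC.card_normalizer, Nat.card_eq_fintype_card (α := Subgroup.normalizer (C : Set (Cfsg.Sz F m))),
      Fintype.card_subtype]
  rw [htcard, mul_comm (Nat.card C)] at h1
  refine (Nat.le_of_mul_le_mul_right h1 Nat.card_pos).trans (Finset.card_le_card ?_)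
  intro y hy
  obtain ⟨n, hn, rfl⟩ := Finset.mem_image.mp hy
  refine Finset.mem_filter.mpr ⟨Finset.mem_filter.mpr ⟨Finset.mem_univ _, ?_, ?_⟩, ?_⟩
  · exact (Subgroup.mem_normalizer_iff.mp (Finset.mem_filter.mp hn).2 x).mp hxC
  · exact fun e => hx1 (conj_eq_one_iff.mp e)
  · exact ConjClasses.mk_eq_mk_iff_isConj.mpr (isConj_iff.mpr ⟨n, rfl⟩).symm

/-- There are at most `q + 3` irreducible characters. -/
theorem card_irr_le : Fintype.card (IrrCharacter (Cfsg.Sz F m)) ≤ 2 ^ (2 * m + 1) + 3 := by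
  obtain ⟨A, B, hA, hB, hcA, hcB, -, -, hall⟩ := exists_tori h
  have h1 := torus_classes (torType_torus h)
  have h2 := torus_classes (torType_member h hA)
  have h3 := torus_classes (torType_member h hB)
  rw [card_torus h] at h1
  rw [hcA] at h2
  rw [hcB] at h3
  haveI : Fintype (ConjClasses (Cfsg.Sz F m)) := Fintype.ofFinite _
  have hcover : (Finset.univ : Finset (ConjClasses (Cfsg.Sz F m))) ⊆
      ({ConjClasses.mk 1, ConjClasses.mk (T h 0 1), ConjClasses.mk (T h 1 0),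
        ConjClasses.mk (T h 1 0)⁻¹} : Finset _) ∪
      ((Finset.univ.filter fun x : Cfsg.Sz F m => x ∈ torus h ∧ x ≠ 1).image ConjClasses.mk ∪
      ((Finset.univ.filter fun x : Cfsg.Sz F m => x ∈ A ∧ x ≠ 1).image ConjClasses.mk ∪
      (Finset.univ.filter fun x : Cfsg.Sz F m => x ∈ B ∧ x ≠ 1).image ConjClasses.mk)) := by
    intro K _
    obtain ⟨g, rfl⟩ := ConjClasses.mk_surjective K
    simp only [Finset.mem_union, Finset.mem_insert, Finset.mem_singleton, Finset.mem_image,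
      Finset.mem_filter, Finset.mem_univ, true_and, ConjClasses.mk_eq_mk_iff_isConj]
    rcases class_cover h hall g with e | e | e | e | ⟨x, hx1, e, hx⟩
    · exact Or.inl (Or.inl e)
    · exact Or.inl (Or.inr (Or.inl e))
    · exact Or.inl (Or.inr (Or.inr (Or.inl e)))
    · exact Or.inl (Or.inr (Or.inr (Or.inr e)))
    · rcases hx with hx | hx | hx
      · exact Or.inr (Or.inl ⟨x, ⟨hx, hx1⟩, e.symm⟩)
      · exact Or.inr (Or.inr (Or.inl ⟨x, ⟨hx, hx1⟩, e.symm⟩))
      · exact Or.inr (Or.inr (Or.inr ⟨x, ⟨hx, hx1⟩, e.symm⟩))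
  have h4 := (Finset.card_le_card hcover).trans ((Finset.card_union_le _ _).trans
    (Nat.add_le_add Finset.card_le_four ((Finset.card_union_le _ _).trans
      (Nat.add_le_add_left (Finset.card_union_le _ _) _))))
  rw [Finset.card_univ, ← Nat.card_eq_fintype_card, ← card_irrCharacter, Nat.card_eq_fintype_card] at h4
  have hrq : 2 ^ (m + 1) ≤ 2 ^ (2 * m + 1) := Nat.pow_le_pow_right (by norm_num) (by omega)
  have h8 := h.eight_le_card
  rw [h.card] at h8
  omega

/-! ### The permutation characters -/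

/-- What is used about the characters containing the trivial character of the root group. -/
structure Known (P : Finset (IrrCharacter (Cfsg.Sz F m))) (st : IrrCharacter (Cfsg.Sz F m)) :
    Prop where
  card_P : 2 * P.card = 2 ^ (2 * m + 1)
  one_mem : ZassSuz.oneIrr (Cfsg.Sz F m) ∈ P
  st_not : st ∉ P
  deg_P : ∀ χ ∈ P, χ ≠ ZassSuz.oneIrr _ →
    (χ : Cfsg.Sz F m → ℂ) 1 = ((((2 ^ (2 * m + 1)) ^ 2 + 1 : ℕ)) : ℂ)
  root_P : ∀ χ ∈ P, ∀ u ∈ rootGroup h, u ≠ 1 → (χ : Cfsg.Sz F m → ℂ) u = 1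
  tor_P : ∀ χ ∈ P, χ ≠ ZassSuz.oneIrr _ → ∀ x, IsTor x → (χ : Cfsg.Sz F m → ℂ) x = 0
  st_one : (st : Cfsg.Sz F m → ℂ) 1 = ((((2 ^ (2 * m + 1)) ^ 2 : ℕ)) : ℂ)
  st_root : ∀ u ∈ rootGroup h, u ≠ 1 → (st : Cfsg.Sz F m → ℂ) u = 0
  st_tor : ∀ x, IsTor x → (st : Cfsg.Sz F m → ℂ) x = -1
  cusp : ∀ χ, χ ∉ P → χ ≠ st → ∑ u : rootGroup h, (χ : Cfsg.Sz F m → ℂ) u = 0

/-- Defect zero vanishing on the anisotropic tori. -/
theorem tor_eq_zero (χ : IrrCharacter (Cfsg.Sz F m))
    (hχ : (χ : Cfsg.Sz F m → ℂ) 1 = ((((2 ^ (2 * m + 1)) ^ 2 + 1 : ℕ)) : ℂ)) {x : Cfsg.Sz F m}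
    (hx : IsTor x) : (χ : Cfsg.Sz F m → ℂ) x = 0 := by
  obtain ⟨hx1, C, hC, hxC⟩ := hx
  obtain ⟨d, ρ, hirr, hρ⟩ := χ.2
  haveI := hirr
  obtain ⟨p, hp, hpx⟩ := Nat.exists_prime_and_dvd fun e => hx1 (orderOf_eq_one_iff.mp e)
  have hd : Module.finrank ℂ (Fin d → ℂ) = (2 ^ (2 * m + 1)) ^ 2 + 1 := by
    have := Representation.char_one ρ
    rw [hρ, hχ] at this
    exact_mod_cast this.symm
  set n := 2 ^ (2 * m + 1)
  have hpd : p ∣ n ^ 2 + 1 :=
    hpx.trans ((member_orderOf_dvd h hC hxC).trans (member_card_dvd h hC))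
  obtain ⟨k, r, hr, hk⟩ := Nat.exists_eq_pow_mul_and_not_dvd (n := n ^ 2 + 1) (by omega) p hp.ne_one
  have hG : Nat.card (Cfsg.Sz F m) = n ^ 2 * (n ^ 2 + 1) * (n - 1) := card_Sz h
  have hpn : ¬ p ∣ n ^ 2 * (n - 1) := fun e => by
    have hc := Nat.Coprime.mul_left (coprime_three (m := m)).2.1 (coprime_three (m := m)).2.2
    exact hp.not_dvd_one (hc.gcd_eq_one ▸ Nat.dvd_gcd e hpd)
  rw [← hρ]
  refine Cfsg.Agent.S0165.result ρ p k hp ?_ ?_ ?_ x hpx
  · exact hG ▸ ((Dvd.intro r hk.symm).trans (dvd_mul_left _ _)).trans (dvd_mul_right _ _)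
  · intro e
    rw [hG, show n ^ 2 * (n ^ 2 + 1) * (n - 1) = (n ^ 2 + 1) * (n ^ 2 * (n - 1)) by ring,
      hk, mul_assoc, pow_succ] at e
    rcases hp.dvd_mul.mp ((Nat.mul_dvd_mul_iff_left (pow_pos hp.pos k)).mp e) with e | e
    · exact hr e
    · exact hpn e
  · rw [hd]; exact Dvd.intro r hk.symm

/-- The multiplicity of the trivial character of the root group. -/
noncomputable def muU (χ : IrrCharacter (Cfsg.Sz F m)) : ℕ :=
  (IsCharacter.exists_classInner_nat (IsCharacter.restrict (IsIrrCharacter.isCharacter χ.2) (rootGroup h))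
    isCharacter_one).choose

theorem muU_spec (χ : IrrCharacter (Cfsg.Sz F m)) :
    Cfsg.classInner (fun x : rootGroup h => (χ : Cfsg.Sz F m → ℂ) x) (fun _ => (1 : ℂ)) = muU h χ :=
  (IsCharacter.exists_classInner_nat (IsCharacter.restrict (IsIrrCharacter.isCharacter χ.2) (rootGroup h))
    isCharacter_one).choose_spec

theorem inner_R (χ : IrrCharacter (Cfsg.Sz F m)) :
    Cfsg.classInner (Cfsg.indFun (rootGroup h) fun _ => (1 : ℂ)) (χ : Cfsg.Sz F m → ℂ) = muU h χ := by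
  rw [classInner_indFun_left _ _ (IsCharacter.isClassFunction (IsIrrCharacter.isCharacter χ.2)),
    ← classInner_conj_symm, muU_spec, map_natCast]

theorem sum_root (χ : IrrCharacter (Cfsg.Sz F m)) :
    ∑ u : rootGroup h, (χ : Cfsg.Sz F m → ℂ) u =
      (((2 ^ (2 * m + 1)) ^ 2 : ℕ) : ℂ) * (muU h χ : ℂ) := by
  rw [← muU_spec h χ, Cfsg.classInner, card_rootGroup h, ← mul_assoc,
    mul_inv_cancel₀ (Nat.cast_ne_zero.mpr (by positivity)), one_mul]
  simp only [map_one, mul_one]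

theorem exists_known : ∃ P st, Known h P st := by
  let Ω := Cfsg.suzukiOvoid F m
  haveI : Fintype Ω := Fintype.ofFinite _
  haveI := Suzuki.isSimple h
  let i0 : Ω := ⟨_, pinf_mem⟩
  let z0 : Ω := ⟨_, pt_mem (0 : F) 0⟩
  have hne : i0 ≠ z0 := fun e => pt_ne_pinf _ _ (congrArg Subtype.val e).symm
  have hst : ∀ g : Cfsg.Sz F m, g ∈ stabilizer (Cfsg.Sz F m) i0 → g ∈ borel F m := fun g hg =>
    congrArg Subtype.val hg
  have D : ZassKer.Ker i0 z0 (rootGroup h) := by
    refine ZassSuz.ker_of_reg (Cfsg.Agent.S0327.result h.one_le h.card) hne ?_ ?_ ?_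
    · exact fun g hg => Subtype.ext (rootGroup_le_borel h hg)
    · exact fun g hg u hu =>
        (Subgroup.mem_normalizer_iff.mp (borel_le_normalizer h (hst g hg)) u).mp hu
    · rintro ⟨c, hc⟩ ⟨d, hd⟩ hci hdi
      rcases mem_ovoid.mp hc with rfl | ⟨x, y, rfl⟩
      · exact absurd rfl hci
      rcases mem_ovoid.mp hd with rfl | ⟨x', y', rfl⟩
      · exact absurd rfl hdi
      refine ⟨⟨T h (x + x') (y + y' + θ m (x + x') * x), _, _, rfl⟩, Subtype.ext ?_, ?_⟩
      · show T h _ _ • pt m x y = pt m x' y'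
        rw [T_smul_pt]
        congr 1
        · linear_combination h.add_self x
        · linear_combination h.add_self y + h.add_self (θ m (x + x') * x)
      · rintro ⟨_, a, b, rfl⟩ e
        have e' : T h a b • pt m x y = pt m x' y' := congrArg Subtype.val e
        rw [T_smul_pt] at e'
        obtain ⟨e1, e2⟩ := pt_inj e'
        refine Subtype.ext ?_
        show T h a b = T h _ _
        have ha : a = x + x' := by linear_combination e1 - h.add_self x
        subst ha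
        congr 1
        linear_combination e2 - h.add_self y - h.add_self (θ m (x + x') * x)
  have hna : ∃ u ∈ rootGroup h, ∃ v ∈ rootGroup h, u * v ≠ v * u := by
    obtain ⟨a, c, e⟩ := exists_comm_coord h 1
    refine ⟨T h a 0, ⟨_, _, rfl⟩, T h c 0, ⟨_, _, rfl⟩, fun e' => ?_⟩
    have := T_comm h a 0 c 0
    rw [e', e] at this
    exact one_ne_zero ((eq_one_iff_T h).mp (mul_eq_right.mp this.symm)).2
  have S := ZassSuz.Suz.of_ker D hna
  set q := 2 ^ (2 * m + 1) with hq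
  have hU : Nat.card (rootGroup h) = q ^ 2 := card_rootGroup h
  have hq8 : 8 ≤ q := by rw [hq, ← h.card]; exact h.eight_le_card
  have htwo : Nat.card (Zass.two (G := Cfsg.Sz F m) i0 z0) = q - 1 := by
    have e1 := S.toData.card_group
    rw [hU, card_Sz h, ← hq] at e1
    refine (Nat.eq_of_mul_eq_mul_left (n := (q ^ 2 + 1) * q ^ 2) (by positivity) ?_).symm
    linarith [e1]
  obtain ⟨P, hP2, hone, -, hPu, hPd⟩ := S.exists_known
  rw [htwo] at hP2
  rw [hU] at hPd
  -- multiplicities of the trivial character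
  let R : Cfsg.Sz F m → ℂ := Cfsg.indFun (rootGroup h) fun _ => (1 : ℂ)
  have hRc : Cfsg.IsCharacter _ R := isCharacter_indFun _ isCharacter_one
  obtain ⟨μ, hμ, hsum⟩ : ∃ μ : IrrCharacter (Cfsg.Sz F m) → ℕ,
      (∀ χ : IrrCharacter (Cfsg.Sz F m), Cfsg.classInner R (χ : Cfsg.Sz F m → ℂ) = μ χ) ∧
      ∀ χ : IrrCharacter (Cfsg.Sz F m),
        ∑ u : rootGroup h, (χ : Cfsg.Sz F m → ℂ) u = ((q ^ 2 : ℕ) : ℂ) * (μ χ : ℂ) :=
    ⟨muU h, inner_R h, sum_root h⟩
  have hPμ : ∀ χ ∈ P, μ χ = if χ = ZassSuz.oneIrr _ then 1 else 2 := by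
    intro χ hχ
    have h2 := hsum χ
    rw [← Finset.add_sum_erase _ _ (Finset.mem_univ (1 : rootGroup h)), Finset.sum_congr rfl
      (fun u hu => hPu χ hχ u (Finset.ne_of_mem_erase hu)), Finset.sum_const,
      Finset.card_erase_of_mem (Finset.mem_univ _), Finset.card_univ, ← Nat.card_eq_fintype_card, hU,
      nsmul_eq_mul, mul_one, OneMemClass.coe_one] at h2
    have hq2 : (q ^ 2 : ℕ) ≠ 0 := by positivity
    split_ifs with e
    · rw [e, show ((ZassSuz.oneIrr (Cfsg.Sz F m) : IrrCharacter _) : Cfsg.Sz F m → ℂ) 1 = 1 from rfl] at h2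
      have h3 : 1 + (q ^ 2 - 1) = q ^ 2 * μ (ZassSuz.oneIrr _) := by exact_mod_cast h2
      rw [e]
      refine Nat.eq_of_mul_eq_mul_left (Nat.pos_of_ne_zero hq2) ?_
      omega
    · rw [hPd χ hχ e] at h2
      have h3 : q ^ 2 + 1 + (q ^ 2 - 1) = q ^ 2 * μ χ := by exact_mod_cast h2
      refine Nat.eq_of_mul_eq_mul_left (Nat.pos_of_ne_zero hq2) ?_
      omega
  have hnorm : ∑ χ, μ χ * μ χ = 2 * (q - 1) := by
    have h1 := S.norm_R
    rw [htwo] at h1
    have h2 : R = ∑ χ : IrrCharacter (Cfsg.Sz F m), (μ χ : ℂ) • (χ : Cfsg.Sz F m → ℂ) := by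
      rw [IsCharacter.eq_sum hRc]; exact Finset.sum_congr rfl fun χ _ => by rw [hμ]
    change Cfsg.classInner R R = _ at h1
    rw [h2, classInner_combination₂] at h1
    simp only [map_natCast] at h1
    exact_mod_cast h1
  have hPsum : ∑ χ ∈ P, μ χ * μ χ + 3 = 4 * P.card := by
    rw [← Finset.add_sum_erase _ _ hone, Finset.sum_congr rfl (fun χ hχ => by
      rw [hPμ χ (Finset.mem_of_mem_erase hχ), if_neg (Finset.ne_of_mem_erase hχ)]),
      Finset.sum_const, hPμ _ hone, if_pos rfl, Finset.card_erase_of_mem hone, smul_eq_mul]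
    have := Finset.card_pos.mpr ⟨_, hone⟩
    omega
  have hrest : ∑ χ ∈ Finset.univ \ P, μ χ * μ χ = 1 := by
    have := Finset.sum_sdiff (f := fun χ => μ χ * μ χ) (Finset.subset_univ P)
    omega
  obtain ⟨st, hst', hstμ⟩ : ∃ st ∈ Finset.univ \ P, μ st ≠ 0 := by
    by_contra hc
    push Not at hc
    rw [Finset.sum_eq_zero fun χ hχ => by rw [hc χ hχ, mul_zero]] at hrest
    omega
  have hstP : st ∉ P := (Finset.mem_sdiff.mp hst').2
  have hμst : μ st = 1 := by
    have := Finset.single_le_sum (f := fun χ => μ χ * μ χ) (fun _ _ => Nat.zero_le _) hst'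
    rw [hrest] at this
    exact le_antisymm ((Nat.le_mul_self _).trans this) (Nat.pos_of_ne_zero hstμ)
  have hothers : ∀ χ, χ ∉ P → χ ≠ st → μ χ = 0 := by
    intro χ hχ hne'
    have := Finset.add_le_sum (f := fun χ => μ χ * μ χ) (fun _ _ => Nat.zero_le _) hst'
      (Finset.mem_sdiff.mpr ⟨Finset.mem_univ χ, hχ⟩) (Ne.symm hne')
    rw [hrest, hμst] at this
    exact Nat.mul_self_inj.mp (show μ χ * μ χ = 0 * 0 by omega)
  have hR : ∀ g, R g = (ZassSuz.oneIrr (Cfsg.Sz F m) : Cfsg.Sz F m → ℂ) g +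
      2 * (∑ χ ∈ P.erase (ZassSuz.oneIrr _), (χ : Cfsg.Sz F m → ℂ) g) + (st : Cfsg.Sz F m → ℂ) g := by
    intro g
    have e := congrFun (IsCharacter.eq_sum hRc) g
    simp only [Finset.sum_apply, Pi.smul_apply, smul_eq_mul, hμ] at e
    rw [e, ← Finset.sum_subset (Finset.subset_univ (insert st P)) (fun χ _ hχ => by
      rw [Finset.mem_insert, not_or] at hχ
      rw [hothers χ hχ.2 hχ.1, Nat.cast_zero, zero_mul]),
      Finset.sum_insert hstP, ← Finset.add_sum_erase _ _ hone, Finset.mul_sum,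
      Finset.sum_congr rfl (fun χ hχ => by
        rw [hPμ χ (Finset.mem_of_mem_erase hχ), if_neg (Finset.ne_of_mem_erase hχ)]),
      hPμ _ hone, if_pos rfl, hμst]
    push_cast
    ring
  have hdegP : ∀ χ ∈ P, χ ≠ ZassSuz.oneIrr _ →
      (χ : Cfsg.Sz F m → ℂ) 1 = ((q ^ 2 + 1 : ℕ) : ℂ) := fun χ hχ e => by
    rw [hPd χ hχ e]; push_cast; rfl
  have hPtor : ∀ χ ∈ P, χ ≠ ZassSuz.oneIrr _ → ∀ x, IsTor x → (χ : Cfsg.Sz F m → ℂ) x = 0 :=
    fun χ hχ e x hx => tor_eq_zero h χ (hdegP χ hχ e) hx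
  have hcast : ((P.erase (ZassSuz.oneIrr (Cfsg.Sz F m))).card : ℂ) * 2 + 2 = (q : ℂ) := by
    rw [Finset.card_erase_of_mem hone]
    have := Finset.card_pos.mpr ⟨_, hone⟩
    exact_mod_cast (show (P.card - 1) * 2 + 2 = q by omega)
  refine ⟨P, st, ⟨by omega, hone, hstP, hdegP, fun χ hχ u hu hu1 => hPu χ hχ ⟨u, hu⟩
    (fun e => hu1 (congrArg Subtype.val e)), hPtor, ?_, fun u hu hu1 => ?_, fun x hx => ?_,
    fun χ hχ hne' => by rw [hsum, hothers χ hχ hne', Nat.cast_zero, mul_zero]⟩⟩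
  · have e := hR 1
    have hidx : (rootGroup h).index = (q ^ 2 + 1) * (q - 1) := by
      refine Nat.eq_of_mul_eq_mul_right (Nat.card_pos (α := rootGroup h)) ?_
      rw [Subgroup.index_mul_card, card_Sz h, hU]
      ring
    rw [Finset.sum_congr rfl (fun χ hχ => hdegP χ (Finset.mem_of_mem_erase hχ) (Finset.ne_of_mem_erase hχ)),
      Finset.sum_const, nsmul_eq_mul] at e
    rw [show (ZassSuz.oneIrr (Cfsg.Sz F m) : Cfsg.Sz F m → ℂ) 1 = 1 from rfl] at e
    simp only [R, indFun_one_apply, hidx, mul_one] at e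
    show _ = ((q ^ 2 : ℕ) : ℂ)
    push_cast [Nat.cast_sub (show 1 ≤ q by omega)] at e ⊢
    linear_combination -e - ((q : ℂ) ^ 2 + 1) * hcast
  · have e := hR u
    rw [Finset.sum_congr rfl (fun χ hχ => hPu χ (Finset.mem_of_mem_erase hχ) ⟨u, hu⟩
        (fun e' => hu1 (congrArg Subtype.val e'))),
      Finset.sum_const, nsmul_eq_mul, mul_one] at e
    have e' : R u = ((q : ℂ) - 1) := by
      have := S.ind_apply (f := fun _ => (1 : ℂ)) (fun _ _ => rfl) (u := ⟨u, hu⟩)
        (fun e' => hu1 (congrArg Subtype.val e'))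
      rw [Finset.sum_const, Finset.card_univ, ← Nat.card_eq_fintype_card, htwo, nsmul_eq_mul, mul_one,
        Nat.cast_sub (by omega), Nat.cast_one] at this
      exact this
    rw [show (ZassSuz.oneIrr (Cfsg.Sz F m) : Cfsg.Sz F m → ℂ) u = 1 from rfl] at e
    linear_combination e' - e - hcast
  · have e := hR x
    have e' : R x = 0 := indFun_eq_zero_of_forall _ _ fun y hy => not_conj_root h hx y⁻¹ (by
      simpa using hy)
    rw [e', Finset.sum_congr rfl (fun χ hχ =>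
      hPtor χ (Finset.mem_of_mem_erase hχ) (Finset.ne_of_mem_erase hχ) x hx), Finset.sum_const_zero] at e
    rw [show (ZassSuz.oneIrr (Cfsg.Sz F m) : Cfsg.Sz F m → ℂ) x = 1 from rfl] at e
    linear_combination -e

end Cfsg.Agent.SzChar
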