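import Cfsg.Agent.Lib.SzChar.Setup
import Cfsg.Agent.Lib.Char.Integral

/-!
# Cuspidal characters: values on the root group and column relations
-/

set_option autoImplicit false
set_option linter.unusedSectionVars false
set_option linter.style.haveILetI false

namespace Cfsg.Agent.SzChar

open Cfsg Cfsg.Agent.Char Cfsg.Agent.Suzuki
open scoped ComplexConjugate Classical

/-- An algebraic integer with a nonzero integer multiple an integer is an integer. -/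
theorem exists_int_of_mul {x : ℂ} (hx : IsIntegral ℤ x) {k l : ℤ} (hk : k ≠ 0)
    (e : (k : ℂ) * x = (l : ℂ)) : ∃ n : ℤ, x = (n : ℂ) ∧ k * n = l := by
  have hxq : x = (((l : ℚ) / (k : ℚ) : ℚ) : ℂ) := by
    push_cast
    rw [eq_div_iff (Int.cast_ne_zero.mpr hk), ← e]
    ring
  obtain ⟨n, hn⟩ := exists_int_of_isIntegral (hxq ▸ hx)
  rw [hn] at hxq
  refine ⟨n, by rw [hxq]; push_cast; ring, ?_⟩
  rw [hxq] at e
  exact_mod_cast e

variable {F : Type*} [Field F] [Fintype F] {m : ℕ} (h : SzField F m)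
  [Fintype (Cfsg.Sz F m)]

/-- `q = 2 ^ (2m+1)`. -/
local notation "qn" => ((2 : ℕ) ^ (2 * m + 1) : ℕ)

include h

theorem four_dvd_q : 4 ∣ qn := by
  have := h.one_le
  exact ⟨2 ^ (2 * m - 1), by rw [show (4 : ℕ) = 2 ^ 2 from rfl, ← pow_add]; congr 1; omega⟩

theorem eight_le_q : 8 ≤ qn := by rw [← h.card]; exact h.eight_le_card

theorem exists_vals (χ : IrrCharacter (Cfsg.Sz F m))
    (hc : ∑ u : rootGroup h, (χ : Cfsg.Sz F m → ℂ) u = 0) :
    ∃ (a : ℕ) (b : ℤ), Even b ∧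
      (χ : Cfsg.Sz F m → ℂ) 1 = ((qn : ℂ) - 1) * ((a : ℂ) + b) ∧
      (χ : Cfsg.Sz F m → ℂ) (T h 0 1) = ((qn : ℂ) - 1) * a - b ∧
      (χ : Cfsg.Sz F m → ℂ) (T h 1 0) + (χ : Cfsg.Sz F m → ℂ) (T h 1 0)⁻¹ = -2 * (a : ℂ) := by
  set q := qn with hq
  have hq8 : 8 ≤ q := eight_le_q h
  have hU : Nat.card (rootGroup h) = q ^ 2 := card_rootGroup h
  have hZ : Nat.card (zGroup h) = q := card_zGroup h
  set f := (χ : Cfsg.Sz F m → ℂ) with hf
  have hchar : Cfsg.IsCharacter _ f := IsIrrCharacter.isCharacter χ.2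
  have hcls := isClassFunction_iff.mp (IsCharacter.isClassFunction hchar)
  set z := T h 0 1
  set u := T h 1 0
  set R := f u + f u⁻¹ with hR
  have hz : ∀ v ∈ zGroup h, v ≠ 1 → f v = f z := by
    rintro v ⟨b, rfl⟩ hv
    exact hcls _ _ (conj_Z h fun hb => hv ((eq_one_iff_T h).mpr ⟨rfl, hb⟩))
  have hu : ∀ v ∈ rootGroup h, v ∉ zGroup h → f v + f v⁻¹ = R := by
    rintro v ⟨a, b, rfl⟩ hv
    have ha : a ≠ 0 := fun ha => hv ⟨b, by rw [ha]⟩
    have key : ∀ w : Cfsg.Sz F m, IsConj (T h a b) w →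
        f (T h a b) + f (T h a b)⁻¹ = f w + f w⁻¹ := fun w hw => by
      obtain ⟨c, hc⟩ := isConj_iff.mp hw
      rw [hcls _ _ hw, hcls (T h a b)⁻¹ w⁻¹ (isConj_iff.mpr ⟨c, by rw [← hc]; group⟩)]
    rcases conj_T h (b := b) ha with e | e
    · exact key _ e
    · rw [key _ e, inv_inv, add_comm]
  -- the sum over `Z`
  obtain ⟨A, hA⟩ : ∃ A : ℕ, f 1 + ((q : ℂ) - 1) * f z = (q : ℂ) * A := by
    obtain ⟨A, hA⟩ := IsCharacter.exists_classInner_nat (IsCharacter.restrict hchar (zGroup h))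
      isCharacter_one
    refine ⟨A, ?_⟩
    rw [← hA, Cfsg.classInner, hZ, ← mul_assoc,
      mul_inv_cancel₀ (Nat.cast_ne_zero.mpr (by omega)), one_mul]
    simp only [map_one, mul_one]
    rw [← Finset.add_sum_erase _ _ (Finset.mem_univ (1 : zGroup h)), OneMemClass.coe_one,
      Finset.sum_congr rfl fun (v : zGroup h) hv => hz (v : Cfsg.Sz F m) v.2
        (fun e => Finset.ne_of_mem_erase hv (Subtype.ext e)),
      Finset.sum_const, Finset.card_erase_of_mem (Finset.mem_univ _), Finset.card_univ,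
      ← Nat.card_eq_fintype_card, hZ, nsmul_eq_mul, Nat.cast_sub (by omega), Nat.cast_one]
  set sZ : Finset (rootGroup h) := Finset.univ.filter fun v => (v : Cfsg.Sz F m) ∈ zGroup h with hsZ
  have hsZc : sZ.card = q := by
    rw [hsZ, ← Fintype.card_subtype, ← Nat.card_eq_fintype_card, ← hZ]
    exact Nat.card_congr (Subgroup.subgroupOfEquivOfLe (zGroup_le h)).toEquiv
  set sU : Finset (rootGroup h) := Finset.univ.filter fun v => (v : Cfsg.Sz F m) ∉ zGroup h with hsU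
  have hcard : sZ.card + sU.card = q ^ 2 := by
    rw [hsZ, hsU, Finset.card_filter_add_card_filter_not, Finset.card_univ, ← Nat.card_eq_fintype_card, hU]
  have h1 : ∑ v ∈ sZ, f v = f 1 + ((q : ℂ) - 1) * f z := by
    rw [← Finset.add_sum_erase _ _ (show (1 : rootGroup h) ∈ sZ from
      Finset.mem_filter.mpr ⟨Finset.mem_univ _, (zGroup h).one_mem⟩), OneMemClass.coe_one,
      Finset.sum_congr rfl fun (v : rootGroup h) hv => hz (v : Cfsg.Sz F m)
        (Finset.mem_filter.mp (Finset.mem_of_mem_erase hv)).2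
        (fun e => Finset.ne_of_mem_erase hv (Subtype.ext e)),
      Finset.sum_const, Finset.card_erase_of_mem (by simp [hsZ, (zGroup h).one_mem]), hsZc,
      nsmul_eq_mul, Nat.cast_sub (by omega), Nat.cast_one]
  have h2 : 2 * ∑ v ∈ sU, f v = (sU.card : ℂ) * R := by
    have hinv : ∑ v ∈ sU, f ((v⁻¹ : rootGroup h) : Cfsg.Sz F m) = ∑ v ∈ sU, f v := by
      refine Finset.sum_equiv (Equiv.inv _) (fun v => ?_) fun v _ => rfl
      simp [hsU]
    rw [two_mul]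
    nth_rewrite 1 [← hinv]
    rw [← Finset.sum_add_distrib, Finset.sum_congr rfl (fun v hv => by
      rw [Subgroup.coe_inv, add_comm, hu v v.2 (Finset.mem_filter.mp hv).2]), Finset.sum_const,
      nsmul_eq_mul]
  have hsum : ∑ v ∈ sZ, f v + ∑ v ∈ sU, f v = 0 := by
    rw [hsZ, hsU, Finset.sum_filter_add_sum_filter_not]; exact hc
  have hsUc : (sU.card : ℂ) = (q : ℂ) ^ 2 - q := by
    rw [hsZc] at hcard
    rw [eq_sub_iff_add_eq', ← Nat.cast_add, hcard, Nat.cast_pow]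
  have hRA : (((q : ℤ) - 1 : ℤ) : ℂ) * R = ((-2 * (A : ℤ) : ℤ) : ℂ) := by
    push_cast
    refine mul_left_cancel₀ (Nat.cast_ne_zero.mpr (show q ≠ 0 by omega) : (q : ℂ) ≠ 0) ?_
    rw [hsUc] at h2
    linear_combination 2 * hsum - 2 * h1 - h2 - 2 * hA
  have hint := IsCharacter.isIntegral hchar
  obtain ⟨n, hn, hn'⟩ := exists_int_of_mul ((hint u).add (hint u⁻¹)) (by omega) hRA
  obtain ⟨k', hk'⟩ : ∃ k', q = 4 * k' := four_dvd_q h
  have hq1A : ((q : ℤ) - 1) ∣ (A : ℤ) := by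
    have hcop : IsCoprime ((q : ℤ) - 1) 2 := ⟨-1, 2 * (k' : ℤ), by rw [hk']; push_cast; ring⟩
    exact hcop.dvd_of_dvd_mul_left ⟨-n, by linear_combination hn'⟩
  obtain ⟨a', ha'⟩ := hq1A
  obtain ⟨a, rfl⟩ : ∃ a : ℕ, a' = a := by
    refine ⟨a'.toNat, (Int.toNat_of_nonneg ?_).symm⟩
    by_contra hneg
    nlinarith [mul_neg_of_pos_of_neg (show (0 : ℤ) < (q : ℤ) - 1 by omega) (not_le.mp hneg),
      Int.natCast_nonneg A]
  have hn2 : n = -2 * (a : ℤ) := by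
    refine mul_left_cancel₀ (show ((q : ℤ) - 1) ≠ 0 by omega) ?_
    linear_combination hn' - 2 * ha'
  obtain ⟨d, -, hd⟩ := IsIrrCharacter.exists_degree χ.2
  have hD : (((q : ℤ) - 1 : ℤ) : ℂ) * (f 1 - f z) = (((q : ℤ) * ((d : ℤ) - A) : ℤ) : ℂ) := by
    push_cast
    linear_combination ((q : ℂ)) * hd - hA
  obtain ⟨D, hD1, hD2⟩ := exists_int_of_mul ((hint 1).sub (hint z)) (by omega) hD
  obtain ⟨b, hb⟩ : ((q : ℤ) - 1) ∣ (d : ℤ) - A := by
    have hcop : IsCoprime ((q : ℤ) - 1) (q : ℤ) := ⟨-1, 1, by ring⟩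
    exact hcop.dvd_of_dvd_mul_left ⟨D, hD2.symm⟩
  have hDb : D = (q : ℤ) * b := by
    refine mul_left_cancel₀ (show ((q : ℤ) - 1) ≠ 0 by omega) ?_
    linear_combination hD2 + (q : ℤ) * hb
  have hA' : (A : ℂ) = ((q : ℂ) - 1) * a := by
    have := congrArg (fun t : ℤ => (t : ℂ)) ha'
    push_cast at this
    exact this
  have hdb : (d : ℂ) = ((q : ℂ) - 1) * a + ((q : ℂ) - 1) * b := by
    have := congrArg (fun t : ℤ => (t : ℂ)) hb
    push_cast at this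
    linear_combination this + hA'
  have e1 : f 1 = ((q : ℂ) - 1) * ((a : ℂ) + b) := by rw [hf, hd, hdb]; ring
  have e2 : f z = ((q : ℂ) - 1) * a - b := by
    rw [hDb] at hD1
    push_cast at hD1
    linear_combination e1 - hD1
  have e3 : f u + f u⁻¹ = -2 * (a : ℂ) := by
    rw [hn, hn2]; push_cast; ring
  refine ⟨a, b, ?_, e1, e2, e3⟩
  obtain ⟨M, hM⟩ := IsCharacter.exists_classInner_nat
    (IsCharacter.restrict hchar (Subgroup.zpowers u)) isCharacter_one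
  have ho : orderOf u = 4 := orderOf_T_one h
  have hzp : ∑ v : Subgroup.zpowers u, f v = f 1 + f u + f z + f u⁻¹ := by
    rw [← (finEquivZPowers (isOfFinOrder_of_finite u)).sum_comp fun v : Subgroup.zpowers u => f v]
    simp only [finEquivZPowers_apply]
    rw [Fin.sum_univ_eq_sum_range (fun i => f (u ^ i)), ho]
    simp only [Finset.sum_range_succ, Finset.sum_range_zero, zero_add, pow_zero, pow_one]
    have h2' : u ^ 2 = z := by rw [pow_two, T_sq]; simp [z]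
    have h3' : u ^ 3 = u⁻¹ :=
      eq_inv_of_mul_eq_one_left (by rw [← pow_succ, show 3 + 1 = orderOf u from ho.symm, pow_orderOf_eq_one])
    rw [h2', h3']
  rw [Cfsg.classInner, Nat.card_zpowers, ho] at hM
  simp only [map_one, mul_one] at hM
  rw [hzp, inv_mul_eq_iff_eq_mul₀ (by norm_num)] at hM
  have hM' : ((q : ℤ) - 1) * (a + b) + ((q : ℤ) - 1) * a - b - 2 * a = 4 * (M : ℤ) := by
    have : ((((q : ℤ) - 1) * (a + b) + ((q : ℤ) - 1) * a - b - 2 * a : ℤ) : ℂ) = ((4 * (M : ℤ) : ℤ) : ℂ) := by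
      push_cast at hM ⊢
      linear_combination hM - e1 - e2 - e3
    exact_mod_cast this
  rw [hk'] at hM'
  push_cast at hM'
  exact ⟨(k' : ℤ) * (2 * a + b) - a - M, by linarith⟩

/-- The cuspidal characters. -/
noncomputable def rest (P : Finset (IrrCharacter (Cfsg.Sz F m))) (st : IrrCharacter (Cfsg.Sz F m)) :
    Finset (IrrCharacter (Cfsg.Sz F m)) :=
  Finset.univ.filter fun χ => χ ∉ P ∧ χ ≠ st

theorem vals_total (χ : IrrCharacter (Cfsg.Sz F m)) :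
    ∃ p : ℕ × ℤ, ∑ u : rootGroup h, (χ : Cfsg.Sz F m → ℂ) u = 0 → Even p.2 ∧
      (χ : Cfsg.Sz F m → ℂ) 1 = ((qn : ℂ) - 1) * ((p.1 : ℂ) + p.2) ∧
      (χ : Cfsg.Sz F m → ℂ) (T h 0 1) = ((qn : ℂ) - 1) * p.1 - p.2 ∧
      (χ : Cfsg.Sz F m → ℂ) (T h 1 0) + (χ : Cfsg.Sz F m → ℂ) (T h 1 0)⁻¹ = -2 * (p.1 : ℂ) := by
  by_cases hc : ∑ u : rootGroup h, (χ : Cfsg.Sz F m → ℂ) u = 0
  · obtain ⟨a, b, e⟩ := exists_vals h χ hc
    exact ⟨(a, b), fun _ => e⟩
  · exact ⟨(0, 0), fun e => absurd e hc⟩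

/-- The multiplicity of a nontrivial linear character of the root group. -/
noncomputable def aOf (χ : IrrCharacter (Cfsg.Sz F m)) : ℤ := ((vals_total h χ).choose.1 : ℤ)

/-- The degree divided by `q - 1`. -/
noncomputable def yOf (χ : IrrCharacter (Cfsg.Sz F m)) : ℤ :=
  ((vals_total h χ).choose.1 : ℤ) + (vals_total h χ).choose.2

variable {P : Finset (IrrCharacter (Cfsg.Sz F m))} {st : IrrCharacter (Cfsg.Sz F m)} (K : Known h P st)

include K

theorem rest_spec {χ : IrrCharacter (Cfsg.Sz F m)} (hχ : χ ∈ rest P st) :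
    0 ≤ aOf h χ ∧ (Odd (yOf h χ) → Odd (aOf h χ)) ∧
      (χ : Cfsg.Sz F m → ℂ) 1 = ((qn : ℂ) - 1) * (yOf h χ : ℂ) ∧
      (χ : Cfsg.Sz F m → ℂ) (T h 0 1) = (qn : ℂ) * (aOf h χ : ℂ) - (yOf h χ : ℂ) ∧
      (χ : Cfsg.Sz F m → ℂ) (T h 1 0) + (χ : Cfsg.Sz F m → ℂ) (T h 1 0)⁻¹ = -2 * (aOf h χ : ℂ) := by
  obtain ⟨hP, hne⟩ := (Finset.mem_filter.mp hχ).2
  obtain ⟨hb, e1, e2, e3⟩ := (vals_total h χ).choose_spec (K.cusp χ hP hne)
  refine ⟨Int.natCast_nonneg _, fun hy => ?_, ?_, ?_, ?_⟩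
  · have := hy.sub_even hb
    simpa [yOf, aOf] using this
  · rw [e1]; simp [yOf]
  · rw [e2]; simp only [yOf, aOf]; push_cast; ring
  · rw [e3]; simp [aOf]

theorem sum_split (f : IrrCharacter (Cfsg.Sz F m) → ℂ) :
    ∑ χ, f χ = f (ZassSuz.oneIrr _) + (∑ χ ∈ P.erase (ZassSuz.oneIrr _), f χ) + f st +
      ∑ χ ∈ rest P st, f χ := by
  have e : Finset.univ \ insert st P = rest P st := by
    ext χ
    simp only [rest, Finset.mem_sdiff, Finset.mem_univ, true_and, Finset.mem_insert, not_or,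
      Finset.mem_filter, and_comm]
  rw [← Finset.sum_sdiff (Finset.subset_univ (insert st P)), e, Finset.sum_insert K.st_not,
    ← Finset.add_sum_erase _ _ K.one_mem]
  ring

theorem card_split :
    Fintype.card (IrrCharacter (Cfsg.Sz F m)) = P.card + 1 + (rest P st).card := by
  have e : Finset.univ \ insert st P = rest P st := by
    ext χ
    simp only [rest, Finset.mem_sdiff, Finset.mem_univ, true_and, Finset.mem_insert, not_or,
      Finset.mem_filter, and_comm]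
  rw [← e, Finset.card_univ_sdiff, Finset.card_insert_of_notMem K.st_not]
  have := Finset.card_le_univ (insert st P)
  rw [Finset.card_insert_of_notMem K.st_not] at this
  omega

theorem card_erase_one : ((P.erase (ZassSuz.oneIrr (Cfsg.Sz F m))).card : ℂ) * 2 + 2 = (qn : ℂ) := by
  rw [Finset.card_erase_of_mem K.one_mem]
  have := Finset.card_pos.mpr ⟨_, K.one_mem⟩
  have := K.card_P
  exact_mod_cast (show (P.card - 1) * 2 + 2 = qn by omega)

theorem conj_one (χ : IrrCharacter (Cfsg.Sz F m)) :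
    conj ((χ : Cfsg.Sz F m → ℂ) 1) = (χ : Cfsg.Sz F m → ℂ) 1 := by
  obtain ⟨d, -, hd⟩ := IsIrrCharacter.exists_degree χ.2
  rw [hd, map_natCast]

theorem root_sums :
    2 * ∑ χ ∈ rest P st, aOf h χ ^ 2 = (qn : ℤ) ∧
    2 * ∑ χ ∈ rest P st, aOf h χ * yOf h χ = (qn : ℤ) * ((qn : ℤ) - 1) ∧
    2 * ∑ χ ∈ rest P st, yOf h χ ^ 2 = (qn : ℤ) * ((qn : ℤ) ^ 2 - 1) := by
  have hq8 := eight_le_q h
  have hp := card_erase_one h K
  have hz1 : T h 0 1 ≠ 1 := fun e => one_ne_zero ((eq_one_iff_T h).mp e).2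
  have hu1 : T h 1 0 ≠ 1 := fun e => one_ne_zero ((eq_one_iff_T h).mp e).1
  have hzm : T h 0 1 ∈ rootGroup h := ⟨_, _, rfl⟩
  have hum : T h 1 0 ∈ rootGroup h := ⟨_, _, rfl⟩
  have one_val : ∀ g, (ZassSuz.oneIrr (Cfsg.Sz F m) : Cfsg.Sz F m → ℂ) g = 1 := fun _ => rfl
  -- identity against a root element
  have hcol : ∀ g ∈ rootGroup h, g ≠ 1 → ∑ χ ∈ rest P st, (χ : Cfsg.Sz F m → ℂ) 1 * (χ : Cfsg.Sz F m → ℂ) g =
      -(1 + ((qn : ℂ) ^ 2 + 1) * ((P.erase (ZassSuz.oneIrr (Cfsg.Sz F m))).card : ℂ)) := by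
    intro g hg hg1
    have e := column_orth_of_not_isConj (g := g) (h := 1) fun e => hg1 (isConj_one_left.mp e)
    rw [sum_split h K, one_val, one_val, Finset.sum_congr rfl (fun χ hχ => by
      rw [K.root_P χ (Finset.mem_of_mem_erase hχ) g hg hg1,
        K.deg_P χ (Finset.mem_of_mem_erase hχ) (Finset.ne_of_mem_erase hχ), map_natCast]),
      Finset.sum_const, K.st_root g hg hg1, nsmul_eq_mul] at e
    simp only [conj_one h K, map_one, one_mul, mul_one, zero_mul] at e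
    rw [Finset.sum_congr rfl fun χ _ => mul_comm _ _]
    push_cast at e ⊢
    linear_combination e
  have hzz : ∑ χ ∈ rest P st, ((qn : ℂ) * (aOf h χ : ℂ) - (yOf h χ : ℂ)) ^ 2 =
      (qn : ℂ) ^ 2 - 1 - ((P.erase (ZassSuz.oneIrr (Cfsg.Sz F m))).card : ℂ) := by
    have e := column_orth_of_isConj (IsConj.refl (T h 0 1))
    have hcz : Nat.card (Subgroup.centralizer ({T h 0 1} : Set (Cfsg.Sz F m))) = qn ^ 2 := by
      rw [← card_rootGroup h]
      refine congrArg (fun H : Subgroup (Cfsg.Sz F m) => Nat.card H) (le_antisymm (centralizer_le h hzm hz1) ?_)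
      rintro _ ⟨a, b, rfl⟩
      exact Subgroup.mem_centralizer_singleton_iff.mpr (T_zero_central h 1 a b).symm
    rw [sum_split h K, hcz, one_val, Finset.sum_congr rfl (fun χ hχ => by
      rw [K.root_P χ (Finset.mem_of_mem_erase hχ) _ hzm hz1]), Finset.sum_const,
      K.st_root _ hzm hz1, nsmul_eq_mul, Finset.sum_congr rfl (fun χ hχ => by
      rw [(rest_spec h K hχ).2.2.2.1])] at e
    simp only [map_sub, map_mul, map_natCast, map_intCast, map_one, mul_one, zero_mul] at e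
    rw [Finset.sum_congr rfl fun χ _ => pow_two _]
    push_cast at e ⊢
    linear_combination e
  have ez := hcol _ hzm hz1
  have eu := hcol _ hum hu1
  have eu' := hcol _ ((rootGroup h).inv_mem hum) (inv_ne_one.mpr hu1)
  have euu : ∑ χ ∈ rest P st, (χ : Cfsg.Sz F m → ℂ) 1 *
      ((χ : Cfsg.Sz F m → ℂ) (T h 1 0) + (χ : Cfsg.Sz F m → ℂ) (T h 1 0)⁻¹) =
      -2 * (1 + ((qn : ℂ) ^ 2 + 1) * ((P.erase (ZassSuz.oneIrr (Cfsg.Sz F m))).card : ℂ)) := by
    simp only [mul_add, Finset.sum_add_distrib, eu, eu']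
    ring
  rw [Finset.sum_congr rfl fun χ hχ => by
    rw [(rest_spec h K hχ).2.2.1, (rest_spec h K hχ).2.2.2.2]] at euu
  rw [Finset.sum_congr rfl fun χ hχ => by
    rw [(rest_spec h K hχ).2.2.1, (rest_spec h K hχ).2.2.2.1]] at ez
  set Sa : ℂ := ∑ χ ∈ rest P st, (aOf h χ : ℂ) ^ 2 with hSa
  set Sy : ℂ := ∑ χ ∈ rest P st, (yOf h χ : ℂ) ^ 2 with hSy
  set Say : ℂ := ∑ χ ∈ rest P st, (aOf h χ : ℂ) * (yOf h χ : ℂ) with hSay
  have f1 : ((qn : ℂ) - 1) * (-2) * Say =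
      -2 * (1 + ((qn : ℂ) ^ 2 + 1) * ((P.erase (ZassSuz.oneIrr (Cfsg.Sz F m))).card : ℂ)) := by
    rw [← euu, hSay, Finset.mul_sum]
    exact Finset.sum_congr rfl fun χ _ => by ring
  have f2 : ((qn : ℂ) - 1) * ((qn : ℂ) * Say - Sy) =
      -(1 + ((qn : ℂ) ^ 2 + 1) * ((P.erase (ZassSuz.oneIrr (Cfsg.Sz F m))).card : ℂ)) := by
    rw [← ez, hSay, hSy, Finset.mul_sum, ← Finset.sum_sub_distrib, Finset.mul_sum]
    exact Finset.sum_congr rfl fun χ _ => by ring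
  have f3 : (qn : ℂ) ^ 2 * Sa - 2 * (qn : ℂ) * Say + Sy =
      (qn : ℂ) ^ 2 - 1 - ((P.erase (ZassSuz.oneIrr (Cfsg.Sz F m))).card : ℂ) := by
    rw [← hzz, hSay, hSy, hSa, Finset.mul_sum, Finset.mul_sum, ← Finset.sum_sub_distrib, ← Finset.sum_add_distrib]
    exact Finset.sum_congr rfl fun χ _ => by ring
  have hq1 : ((qn : ℂ) - 1) ≠ 0 := by
    rw [sub_ne_zero]
    exact_mod_cast (show qn ≠ 1 by omega)
  have hq0 : (qn : ℂ) ≠ 0 := Nat.cast_ne_zero.mpr (by omega)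
  have g1 : 2 * Say = (qn : ℂ) * ((qn : ℂ) - 1) := by
    refine mul_left_cancel₀ hq1 ?_
    linear_combination -f1 + ((qn : ℂ) ^ 2 + 1) * hp
  have g2 : 2 * Sy = (qn : ℂ) * ((qn : ℂ) ^ 2 - 1) := by
    refine mul_left_cancel₀ hq1 ?_
    linear_combination -2 * f2 + ((qn : ℂ) * ((qn : ℂ) - 1)) * g1 + ((qn : ℂ) ^ 2 + 1) * hp
  have g3 : 2 * Sa = (qn : ℂ) := by
    refine mul_left_cancel₀ (pow_ne_zero 2 hq0) ?_
    linear_combination 2 * f3 + 2 * (qn : ℂ) * g1 - g2 - hp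
  rw [hSa] at g3
  rw [hSay] at g1
  rw [hSy] at g2
  exact ⟨by exact_mod_cast g3, by exact_mod_cast g1, by exact_mod_cast g2⟩

theorem not_isConj_root {x g : Cfsg.Sz F m} (hx : IsTor x) (hg : g ∈ rootGroup h) : ¬ IsConj x g :=
  fun e => by
    obtain ⟨c, hc⟩ := isConj_iff.mp e
    exact not_conj_root h hx c (hc ▸ hg)

/-- The column relations at a torus element. -/
theorem tor_sums {x : Cfsg.Sz F m} (hx : IsTor x) :
    ∑ χ ∈ rest P st, (χ : Cfsg.Sz F m → ℂ) x * conj ((χ : Cfsg.Sz F m → ℂ) x) =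
        (Nat.card (Subgroup.centralizer ({x} : Set (Cfsg.Sz F m))) : ℂ) - 2 ∧
    ∑ χ ∈ rest P st, (yOf h χ : ℂ) * (χ : Cfsg.Sz F m → ℂ) x = (qn : ℂ) + 1 ∧
    ∑ χ ∈ rest P st, (aOf h χ : ℂ) * (χ : Cfsg.Sz F m → ℂ) x = 1 := by
  have hq8 := eight_le_q h
  have one_val : ∀ g, (ZassSuz.oneIrr (Cfsg.Sz F m) : Cfsg.Sz F m → ℂ) g = 1 := fun _ => rfl
  have hP : ∀ χ ∈ P.erase (ZassSuz.oneIrr (Cfsg.Sz F m)), (χ : Cfsg.Sz F m → ℂ) x = 0 := fun χ hχ =>
    K.tor_P χ (Finset.mem_of_mem_erase hχ) (Finset.ne_of_mem_erase hχ) x hx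
  have hzm : T h 0 1 ∈ rootGroup h := ⟨_, _, rfl⟩
  have hz1 : T h 0 1 ≠ 1 := fun e => one_ne_zero ((eq_one_iff_T h).mp e).2
  refine ⟨?_, ?_⟩
  · have e := column_orth_of_isConj (IsConj.refl x)
    rw [sum_split h K, one_val, Finset.sum_eq_zero (fun χ hχ => by rw [hP χ hχ, zero_mul]),
      K.st_tor x hx] at e
    simp only [map_neg, map_one, mul_neg, neg_neg, mul_one, add_zero] at e
    linear_combination e
  have e1 := column_orth_of_not_isConj (g := x) (h := 1) fun e => hx.1 (isConj_one_left.mp e)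
  rw [sum_split h K, one_val, one_val, Finset.sum_eq_zero (fun χ hχ => by rw [hP χ hχ, zero_mul]),
    K.st_tor x hx, K.st_one, Finset.sum_congr rfl (fun χ hχ => by
      rw [(rest_spec h K hχ).2.2.1])] at e1
  simp only [map_mul, map_sub, map_natCast, map_intCast, map_one, one_mul, add_zero] at e1
  have g1 : ∑ χ ∈ rest P st, (yOf h χ : ℂ) * (χ : Cfsg.Sz F m → ℂ) x = (qn : ℂ) + 1 := by
    refine mul_left_cancel₀ (show ((qn : ℂ) - 1) ≠ 0 by
      rw [sub_ne_zero]; exact_mod_cast (show qn ≠ 1 by omega)) ?_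
    rw [Finset.mul_sum]
    rw [Finset.sum_congr rfl (g := fun χ : IrrCharacter (Cfsg.Sz F m) =>
      (χ : Cfsg.Sz F m → ℂ) x * (((qn : ℂ) - 1) * (yOf h χ : ℂ))) fun χ _ => by ring]
    push_cast at e1 ⊢
    linear_combination e1
  refine ⟨g1, ?_⟩
  have e2 := column_orth_of_not_isConj (not_isConj_root h K hx hzm)
  rw [sum_split h K, one_val, one_val, Finset.sum_eq_zero (fun χ hχ => by rw [hP χ hχ, zero_mul]),
    K.st_root _ hzm hz1, Finset.sum_congr rfl (fun χ hχ => by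
      rw [(rest_spec h K hχ).2.2.2.1])] at e2
  simp only [map_mul, map_sub, map_zero, map_natCast, map_intCast, map_one, mul_zero, mul_one, add_zero] at e2
  refine mul_left_cancel₀ (Nat.cast_ne_zero.mpr (show qn ≠ 0 by omega) : (qn : ℂ) ≠ 0) ?_
  rw [Finset.mul_sum, mul_one]
  have : ∑ χ ∈ rest P st, (qn : ℂ) * ((aOf h χ : ℂ) * (χ : Cfsg.Sz F m → ℂ) x) =
      ∑ χ ∈ rest P st, (χ : Cfsg.Sz F m → ℂ) x * ((qn : ℂ) * (aOf h χ : ℂ) - (yOf h χ : ℂ)) +
      ∑ χ ∈ rest P st, (yOf h χ : ℂ) * (χ : Cfsg.Sz F m → ℂ) x := by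
    rw [← Finset.sum_add_distrib]
    exact Finset.sum_congr rfl fun χ _ => by ring
  rw [this, g1]
  linear_combination e2

end Cfsg.Agent.SzChar
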